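import Cfsg.Agent.H627.Co3.Dd

/-!
# S1920, case B, `E₇(q)`, `z` of type `A₁D₆`: the contradiction (helper627)
-/

set_option autoImplicit false

namespace Cfsg.Agent.H627.Co3

open Module Subgroup Matrix
open Cfsg.Agent.H13.Co3 Cfsg.Agent.H738.C3

variable {G : Type*} [Group G] {z : G} {F V : Type*} [Field F] [AddCommGroup V] [Module F V] {B : LinearMap.BilinForm F V}

theorem exists_conj {a : Matrix (Fin 2) (Fin 2) F} (ha : a.det ≠ 0) (x : Matrix.SpecialLinearGroup (Fin 2) F) :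
    ∃ x' : Matrix.SpecialLinearGroup (Fin 2) F, x'.1 * a = a * x.1 := by
  have hu : IsUnit a.det := isUnit_iff_ne_zero.2 ha
  refine ⟨⟨a * x.1 * a⁻¹, ?_⟩, ?_⟩
  · rw [Matrix.det_mul, Matrix.det_mul, x.2, mul_one, ← Matrix.det_mul, Matrix.mul_nonsing_inv _ hu, Matrix.det_one]
  · show a * x.1 * a⁻¹ * a = a * x.1
    rw [mul_assoc, Matrix.nonsing_inv_mul _ hu, mul_one]

theorem exists_w : ∃ w : Matrix.SpecialLinearGroup (Fin 2) F, w.1 * w.1 = -1 ∧ ¬ Sc w.1 := by
  refine ⟨⟨!![0, 1; -1, 0], by simp [Matrix.det_fin_two]⟩, ?_, ?_⟩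
  · ext i j
    fin_cases i <;> fin_cases j <;> simp [Matrix.mul_apply, Fin.sum_univ_two]
  · rintro ⟨c, hc⟩
    have := (entries hc).2.1
    simp at this

variable (I : E7I z F B) {P N0 : Subgroup G} {s : G} {ψ : ↥(normalizer (P : Set G)) →* Equiv.Perm (Fin 6)}
  (C : CB P N0 z s ψ)

include C in
theorem exists_K1 [Finite G] (hall : ∀ n ∈ N0, Sc (I.aa n)) (π : Equiv.Perm (Fin 6)) (hπ : Equiv.Perm.sign π = 1) :
    ∃ k, ∃ hk : k ∈ AA C, k ∈ Set.range I.ι ∧ psi C ⟨k, hk⟩ = π := by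
  have hι : ∀ x, I.ι x ∈ AA C := by
    intro x
    rw [mem_AA, act_iff C]
    intro n hn
    obtain ⟨c, hc⟩ := hall n hn
    refine I.comm_of (c := 1) (d := 1) (I.Rι x) (R_N I C hn) ?_ ?_
    · rw [hc, mul_smul_comm, smul_mul_assoc, one_mul, mul_one, one_smul]
    · rw [one_mul, mul_one, one_smul]
  let κ : Matrix.SpecialLinearGroup (Fin 2) F →* Equiv.Perm (Fin 6) := (psi C).comp (I.ι.codRestrict (AA C) hι)
  have hκ : ∀ x, κ x = psi C ⟨I.ι x, hι x⟩ := fun _ => rfl
  have hnorm : ∀ σ : Equiv.Perm (Fin 6), Equiv.Perm.sign σ = 1 → ∀ x, ∃ x', σ * κ x * σ⁻¹ = κ x' := by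
    intro σ hσ x
    obtain ⟨g, hg, hc, hgσ⟩ := exists_even C hσ
    have hgz : g * z = z * g := hc z (C.PN C.zP)
    obtain ⟨a, M, hR⟩ := I.ex g hgz
    obtain ⟨x', hx'⟩ := exists_conj (I.det hR) x
    have h1 := I.conj_ι hR hx'
    refine ⟨x', ?_⟩
    rw [← hgσ, hκ, hκ, mul_inv_eq_iff_eq_mul, ← map_mul, ← map_mul]
    exact congrArg _ (Subtype.ext h1)
  obtain ⟨w, hw, hws⟩ := exists_w (F := F)
  have hκw : κ w ≠ 1 := by
    intro h1
    have h2 : I.ι w ∈ N0 := by
      refine mem_N0_of_psi C (hι w) ⟨2, ?_⟩ h1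
      rw [show (2 : ℕ) ^ 2 = 2 * 2 from rfl, pow_mul, pow_two (I.ι w), four I hw, pow_two, C.z_sq]
    exact hws ((sc_iff I (I.Rι w)).1 (hall _ h2))
  have hex : ∃ σ ∈ alternatingGroup (Fin 6), ¬ (σ * κ w = κ w * σ) := by
    by_contra h
    push Not at h
    exact hκw (cent_alt_six _ h)
  obtain ⟨σ, hσ, hne⟩ := hex
  have hsσ := Equiv.Perm.mem_alternatingGroup.1 hσ
  let H : Subgroup ↥(alternatingGroup (Fin 6)) := κ.range.subgroupOf (alternatingGroup (Fin 6))
  have hH : H.Normal := by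
    constructor
    rintro ⟨n, hn⟩ hnH ⟨g, hg⟩
    rw [mem_subgroupOf] at hnH ⊢
    obtain ⟨x, hx⟩ := hnH
    obtain ⟨x', hx'⟩ := hnorm g (Equiv.Perm.mem_alternatingGroup.1 hg) x
    refine ⟨x', ?_⟩
    rw [← hx', hx]
    rfl
  have : IsSimpleGroup ↥(alternatingGroup (Fin 6)) := alternatingGroup.isSimpleGroup (by simp)
  have hHne : H ≠ ⊥ := by
    intro h0
    obtain ⟨x', hx'⟩ := hnorm σ hsσ w
    have h1 : σ * κ w * σ⁻¹ * (κ w)⁻¹ ∈ alternatingGroup (Fin 6) := by
      rw [Equiv.Perm.mem_alternatingGroup, map_mul, map_mul, map_mul, map_inv, map_inv, hsσ, one_mul, inv_one, mul_one,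
        mul_inv_cancel]
    have h2 : (⟨_, h1⟩ : ↥(alternatingGroup (Fin 6))) ∈ H := by
      rw [mem_subgroupOf]
      refine ⟨x' * w⁻¹, ?_⟩
      rw [map_mul, map_inv, ← hx']
    rw [h0, mem_bot] at h2
    have h3 : σ * κ w * σ⁻¹ * (κ w)⁻¹ = 1 := congrArg Subtype.val h2
    apply hne
    rwa [mul_inv_eq_one, mul_inv_eq_iff_eq_mul] at h3
  have hHt : H = ⊤ := (hH.eq_bot_or_eq_top).resolve_left hHne
  have h3 : (⟨π, Equiv.Perm.mem_alternatingGroup.2 hπ⟩ : ↥(alternatingGroup (Fin 6))) ∈ H := by rw [hHt]; exact mem_top _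
  rw [mem_subgroupOf] at h3
  obtain ⟨x, hx⟩ := h3
  exact ⟨I.ι x, hι x, ⟨x, rfl⟩, hx⟩

include C in
/-- all `a_n` scalar -/
theorem case_i [Finite G] [Finite F] (hall : ∀ n ∈ N0, Sc (I.aa n)) : False := by
  have hD : ∀ {n}, n ∈ N0 → n ∈ DD I C := fun hn => ⟨hn, hall _ hn⟩
  have hDe : DD I C = N0 := le_antisymm (DD_le I C) fun _ h => hD h
  have h16 : 16 ≤ Nat.card (DD I C) := by rw [hDe, C.card]; norm_num
  have hZ : ∀ x ∈ DD I C, (∀ y ∈ DD I C, x * y = y * x) → x * x = 1 → x = 1 ∨ x = z := fun x hx h1 h2 =>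
    mem_z_of_cen C hx.1 (fun m hm => h1 m (hD hm)) h2
  obtain ⟨W, h1, h2, h3, h4⟩ := exists_W I C (fun x hx y hy => cc_D I C h16 hZ hy.1 x hx) (ee_D I C h16 hZ)
    (fun n hn => ⟨1, one_mem _, ⟨1, I.R_one⟩, by rw [mul_one]; exact hD hn⟩)
  have h5 : W ≤ N0 := by
    intro w hw
    refine mem_N0 C (h3 hw) ?_ (exists_K1 I C hall) ?_
    · obtain ⟨k, hk⟩ := h1 ⟨w, hw⟩
      exact ⟨k, congrArg Subtype.val hk⟩
    · rintro _ ⟨x, rfl⟩
      obtain ⟨N, hN⟩ := h4 w hw
      refine I.comm_of (c := 1) (d := 1) hN (I.Rι x) ?_ ?_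
      · rw [one_mul, mul_one, one_smul]
      · rw [one_mul, mul_one, one_smul]
  have h6 := Nat.le_of_dvd Nat.card_pos (card_dvd_of_le h5)
  rw [C.card] at h6
  omega

section Four

variable {j : Matrix.SpecialLinearGroup (Fin 2) F} (hj : j.1 * j.1 = -1) (hy : I.ι j ∈ N0) {t : G} (ht : t ∈ N0)
  (hal : I.al (I.ι j) t = -1)

theorem al_self (g : G) : I.al g g = 1 := by
  unfold E7I.al
  rw [if_pos rfl]

include C hy ht hal in
theorem sc_al {n : G} (hn : n ∈ N0) (h1 : I.al (I.ι j) n = 1) (h2 : I.al t n = 1) : Sc (I.aa n) := by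
  have h3 := al_spec I C hy ht
  rw [hal, neg_smul, one_smul] at h3
  have h4 := al_spec I C hy hn
  have h5 := al_spec I C ht hn
  rw [h1, one_smul] at h4
  rw [h2, one_smul] at h5
  exact sc_of_comm I.two h3 (I.det (I.mul (R_N I C ht) (R_N I C hy))) h4 h5

include C in
theorem al_sc {n m : G} (hn : n ∈ N0) (hm : m ∈ N0) (hs : Sc (I.aa n)) : I.al n m = 1 := by
  refine al_uniq I C hn hm (R_N I C hn) (R_N I C hm) ?_
  obtain ⟨c, hc⟩ := hs
  rw [hc, smul_mul_assoc, mul_smul_comm, one_mul, mul_one, one_smul]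

include C hy ht hal in
/-- `N0 = D ⟨y0, t⟩` -/
theorem exists_q {n : G} (hn : n ∈ N0) : n ∈ DD I C ∨ n * I.ι j ∈ DD I C ∨ n * t ∈ DD I C ∨ n * (I.ι j * t) ∈ DD I C := by
  have hal' : I.al t (I.ι j) = -1 := by rw [al_symm]; exact hal
  rcases I.al_or (I.ι j) n with h1 | h1 <;> rcases I.al_or t n with h2 | h2
  · left
    exact ⟨hn, sc_al I C hy ht hal hn h1 h2⟩
  · right; left
    refine ⟨mul_mem hn hy, sc_al I C hy ht hal (mul_mem hn hy) ?_ ?_⟩
    · rw [al_mul_right I C hy hn hy, h1, al_self, mul_one]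
    · rw [al_mul_right I C ht hn hy, h2, hal']; ring
  · right; right; left
    refine ⟨mul_mem hn ht, sc_al I C hy ht hal (mul_mem hn ht) ?_ ?_⟩
    · rw [al_mul_right I C hy hn ht, h1, hal]; ring
    · rw [al_mul_right I C ht hn ht, h2, al_self, mul_one]
  · right; right; right
    refine ⟨mul_mem hn (mul_mem hy ht), sc_al I C hy ht hal (mul_mem hn (mul_mem hy ht)) ?_ ?_⟩
    · rw [al_mul_right I C hy hn (mul_mem hy ht), al_mul_right I C hy hy ht, h1, hal, al_self]; ring
    · rw [al_mul_right I C ht hn (mul_mem hy ht), al_mul_right I C ht hy ht, h2, hal', al_self]; ring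

include C hy ht hal in
theorem card_D_ge [Finite G] : 16 ≤ Nat.card (DD I C) := by
  classical
  have hq : ∀ n : N0, ∃ d : DD I C × Fin 4, (n : G) = d.1 * (![1, (I.ι j)⁻¹, t⁻¹, (I.ι j * t)⁻¹] d.2) := by
    intro n
    rcases exists_q I C hy ht hal n.2 with h | h | h | h
    · exact ⟨(⟨_, h⟩, 0), by simp⟩
    · exact ⟨(⟨_, h⟩, 1), by simp⟩
    · exact ⟨(⟨_, h⟩, 2), by simp⟩
    · exact ⟨(⟨_, h⟩, 3), by simp [mul_assoc]⟩
  choose f hf using hq
  have h1 : Nat.card N0 ≤ Nat.card (DD I C × Fin 4) := Nat.card_le_card_of_injective f (by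
    intro a b hab
    exact Subtype.ext (by rw [hf a, hf b, hab]))
  rw [C.card, Nat.card_prod, Nat.card_eq_fintype_card (α := Fin 4), Fintype.card_fin] at h1
  omega

include C hy ht hal in
theorem card_D_le [Finite G] : Nat.card (DD I C) ≤ 16 := by
  have hal' : I.al t (I.ι j) = -1 := by rw [al_symm]; exact hal
  have hne := I.one_ne
  let f : DD I C × Fin 4 → N0 := fun d => ⟨(d.1 : G) * (![1, I.ι j, t, I.ι j * t] d.2), by
    refine mul_mem d.1.2.1 ?_
    rcases d with ⟨d, i⟩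
    fin_cases i
    · exact one_mem _
    · exact hy
    · exact ht
    · exact mul_mem hy ht⟩
  have h1 : Nat.card (DD I C × Fin 4) ≤ Nat.card N0 := Nat.card_le_card_of_injective f (by
    rintro ⟨a, i⟩ ⟨b, k⟩ hab
    have h2 : (a : G) * (![1, I.ι j, t, I.ι j * t] i) = (b : G) * (![1, I.ι j, t, I.ι j * t] k) :=
      congrArg Subtype.val hab
    have hmem : ∀ i, (![1, I.ι j, t, I.ι j * t] i) ∈ N0 := by
      intro i
      fin_cases i
      · exact one_mem _
      · exact hy
      · exact ht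
      · exact mul_mem hy ht
    have h3 : ∀ m ∈ N0, I.al m (![1, I.ι j, t, I.ι j * t] i) = I.al m (![1, I.ι j, t, I.ι j * t] k) := by
      intro m hm
      have h4 := congrArg (I.al m) h2
      rwa [al_mul_right I C hm a.2.1 (hmem i), al_mul_right I C hm b.2.1 (hmem k), al_symm I m a, al_symm I m b,
        al_sc I C a.2.1 hm a.2.2, al_sc I C b.2.1 hm b.2.2, one_mul, one_mul] at h4
    have h5 := h3 _ hy
    have h6 := h3 _ ht
    have e0 : ∀ m ∈ N0, I.al m 1 = 1 := fun m hm => by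
      rw [al_symm]; exact al_sc I C (one_mem _) hm (sc_one I)
    have e1 : I.al (I.ι j) (I.ι j * t) = -1 := by rw [al_mul_right I C hy hy ht, al_self, hal, one_mul]
    have e2 : I.al t (I.ι j * t) = -1 := by rw [al_mul_right I C ht hy ht, al_self, hal', mul_one]
    have hik : i = k := by
      fin_cases i <;> fin_cases k <;>
        simp [e0 _ hy, e0 _ ht, e1, e2, al_self, hal, hal', hne, hne.symm] at h5 h6 ⊢
    subst hik
    have h7 : (a : G) = b := mul_right_cancel h2
    rw [Subtype.ext h7])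
  rw [C.card, Nat.card_prod, Nat.card_eq_fintype_card (α := Fin 4), Fintype.card_fin] at h1
  omega

include C hy ht hal in
/-- all `a_n` in `PSL₂` -/
theorem case_sq [Finite G] [Finite F] (hsq : IsSquare (I.aa t).det) : False := by
  have hal' : I.al t (I.ι j) = -1 := by rw [al_symm]; exact hal
  obtain ⟨j', hj', hy1, hk⟩ := exj I C ht hy hal' hsq
  have hal1 : I.al (I.ι j) (I.ι j') = -1 := by rw [al_symm, hk _ hy, hal']
  have h16 := card_D_ge I C hy hy1 hal1
  have h16' := card_D_le I C hy hy1 hal1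
  have hq : ∀ n ∈ N0, ∃ x, I.ι x ∈ N0 ∧ n * I.ι x ∈ DD I C := by
    intro n hn
    rcases exists_q I C hy hy1 hal1 hn with h | h | h | h
    · exact ⟨1, by rw [map_one]; exact one_mem _, by rw [map_one, mul_one]; exact h⟩
    · exact ⟨j, hy, h⟩
    · exact ⟨j', hy1, h⟩
    · exact ⟨j * j', by rw [map_mul]; exact mul_mem hy hy1, by rw [map_mul]; exact h⟩
  have hZ : ∀ x ∈ DD I C, (∀ y ∈ DD I C, x * y = y * x) → x * x = 1 → x = 1 ∨ x = z := by
    intro x hx h1 h2
    refine mem_z_of_cen C hx.1 (fun m hm => ?_) h2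
    obtain ⟨w, hw, hmw⟩ := hq m hm
    obtain ⟨c, hc⟩ := hx.2
    have h3 := I.comm_ι (R_N I C hx.1) hc w
    have h4 := h1 _ hmw
    have h5 : (x * m) * I.ι w = (m * x) * I.ι w := by
      rw [mul_assoc, h4, mul_assoc, mul_assoc, h3]
    exact mul_right_cancel h5
  obtain ⟨W, h1, h2, h3, h4⟩ := exists_W I C (fun x hx y hy => cc_D I C h16 hZ hy.1 x hx) (ee_D I C h16 hZ)
    (fun n hn => by
      obtain ⟨x, hx, hnx⟩ := hq n hn
      exact ⟨I.ι x, hx, ⟨_, I.Rι x⟩, hnx⟩)
  have h5 := card_W I C h1 h3 h4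
  omega

include C hy in
theorem rep_j {v : G} (hv : v ∈ N0) : j.1 * I.aa v = I.al (I.ι j) v • (I.aa v * j.1) := by
  obtain ⟨⟨c, hc, h1⟩, -⟩ := I.prop (I.Rι j)
  rw [h1, smul_mul_assoc, al_spec I C hy hv, mul_smul_comm, smul_comm]

include C hy in
theorem noncomm {v : G} (hv : v ∈ N0) (hav : I.al (I.ι j) v = -1) : v * I.ι j = z * (I.ι j * v) := by
  have h1 := rep_j I C hy hv
  rw [hav, neg_smul, one_smul] at h1
  have h2 := I.conj_ι (R_N I C hv) (x := j) (x' := -j) (by
    rw [Matrix.SpecialLinearGroup.coe_neg, neg_mul, h1, neg_neg])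
  rw [h2]
  have h3 : I.ι (-j) = z * I.ι j := by
    have h4 : -j = -1 * j := by rw [neg_mul, one_mul]
    rw [h4, map_mul]
    congr 1
    exact I.ι_neg
  rw [h3, mul_assoc]

include C hy in
theorem comm_y {v : G} (hv : v ∈ N0) (hav : I.al (I.ι j) v = 1) : v * I.ι j = I.ι j * v := by
  have h1 := rep_j I C hy hv
  rw [hav, one_smul] at h1
  exact I.conj_ι (R_N I C hv) (x := j) (x' := j) h1

include C hy ht hal in
theorem det_v {v : G} (hnsq : ¬ IsSquare (I.aa t).det) (hv : v ∈ N0) (hav : I.al (I.ι j) v = -1) :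
    ¬ IsSquare (I.aa v).det := by
  have hne := I.one_ne
  rintro ⟨r, hr⟩
  have hr0 : r ≠ 0 := by
    rintro rfl
    rw [mul_zero] at hr
    exact I.det (R_N I C hv) hr
  have key : ∀ {q : G} {b : Matrix (Fin 2) (Fin 2) F} {N : Module.End F V}, I.R q b N → Sc (I.aa (v * q)) → IsSquare b.det := by
    intro q b N hq hs
    have h1 := I.mul (R_N I C hv) hq
    obtain ⟨c, hc⟩ := (sc_iff I h1).1 hs
    have h2 := congrArg Matrix.det hc
    rw [Matrix.det_mul, Matrix.det_smul, Fintype.card_fin, Matrix.det_one, mul_one, hr] at h2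
    refine ⟨c / r, ?_⟩
    field_simp
    rw [sq, sq] at *
    linear_combination h2
  rcases exists_q I C hy ht hal hv with h | h | h | h
  · have h1 := al_sc I C hv hy h.2
    rw [al_symm, hav] at h1
    exact hne h1.symm
  · have h1 := al_sc I C h.1 hy h.2
    rw [al_symm, al_mul_right I C hy hv hy, al_self, hav, mul_one] at h1
    exact hne h1.symm
  · exact hnsq (key (R_N I C ht) h.2)
  · have h1 := key (I.mul (I.Rι j) (R_N I C ht)) h.2
    rw [Matrix.det_mul, j.2, one_mul] at h1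
    exact hnsq h1

include C hy ht hal in
/-- commuting with `D`, `y0`, `t` -/
theorem cen_of {p : G} (h1 : ∀ y ∈ DD I C, p * y = y * p) (h2 : p * I.ι j = I.ι j * p) (h3 : p * t = t * p) :
    ∀ m ∈ N0, p * m = m * p := by
  intro m hm
  have key : ∀ {q : G}, p * q = q * p → m * q ∈ DD I C → p * m = m * p := by
    intro q h4 h5
    have h6 := h1 _ h5
    have h7 : (p * m) * q = (m * p) * q := by
      rw [mul_assoc, h6, mul_assoc, mul_assoc, h4]
    exact mul_right_cancel h7
  rcases exists_q I C hy ht hal hm with h | h | h | h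
  · exact h1 m h
  · exact key h2 h
  · exact key h3 h
  · exact key (by rw [← mul_assoc, h2, mul_assoc, h3, mul_assoc]) h

include C hy ht hal in
theorem case_iv1 [Finite G] (hnsq : ¬ IsSquare (I.aa t).det) (hs : s ∈ DD I C) : False := by
  have hne := I.one_ne
  have h16 := card_D_ge I C hy ht hal
  have hDy : ∀ x ∈ DD I C, x * I.ι j = I.ι j * x := fun x hx =>
    comm_y I C hy hx.1 (by rw [al_symm]; exact al_sc I C hx.1 hy hx.2)
  have hZ : ∀ x ∈ DD I C, (∀ y ∈ DD I C, x * y = y * x) → x * x = 1 → x = 1 ∨ x = z := by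
    intro x hx h1 h2
    rcases C.comm x hx.1 t ht with h3 | h3
    · exact mem_z_of_cen C hx.1 (cen_of I C hy ht hal h1 (hDy x hx) h3) h2
    · exfalso
      have h4 : ∀ m ∈ N0, (x * I.ι j) * m = m * (x * I.ι j) := by
        refine cen_of I C hy ht hal ?_ ?_ ?_
        · intro y hyD
          rw [mul_assoc, ← hDy y hyD, ← mul_assoc, h1 y hyD, mul_assoc]
        · rw [hDy x hx, mul_assoc, hDy x hx]
        · have h5 := noncomm I C hy ht hal
          have h6 : I.ι j * t = z * (t * I.ι j) := by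
            rw [h5, ← mul_assoc, C.z_sq, one_mul]
          have hxz := cz C hx.1
          calc x * I.ι j * t = x * (I.ι j * t) := mul_assoc _ _ _
            _ = (x * z) * (t * I.ι j) := by rw [h6]; simp only [mul_assoc]
            _ = z * (x * t) * I.ι j := by rw [hxz]; simp only [mul_assoc]
            _ = (z * z) * (t * x * I.ι j) := by rw [h3]; simp only [mul_assoc]
            _ = _ := by rw [C.z_sq, one_mul, mul_assoc]
      have hxy : x * I.ι j ∈ N0 := mul_mem hx.1 hy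
      have h5 := C.cen _ hxy h4
      have h6 : x * I.ι j ∈ DD I C := (zpowers_le.2 hs) h5
      have h7 := al_sc I C h6.1 ht h6.2
      rw [al_mul_left I C hx.1 hy ht, al_sc I C hx.1 ht hx.2, hal, one_mul] at h7
      exact hne h7.symm
  have hcc := cc_D I C h16 hZ ht s hs
  have hee := ee_D I C h16 hZ s hs
  rcases I.ee_or t with he | he
  · have h1 := tab3 I C ht hnsq he
    have h2 : I.al (I.ι j) (t * s) = -1 := by
      rw [al_mul_right I C hy ht hs.1, hal, al_symm I _ s, al_sc I C hs.1 hy hs.2, mul_one]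
    have h3 := det_v I C hy ht hal hnsq (mul_mem ht hs.1) h2
    have h4 : I.ee (t * s) = 1 := by
      rw [ee_mul I C ht hs.1, he, hee, cc_symm, hcc]; ring
    have h5 := tab3 I C (mul_mem ht hs.1) h3 h4
    have h6 : t * s * (t * s) = (t * t) * (s * s) := by
      calc t * s * (t * s) = t * (s * t) * s := by simp only [mul_assoc]
        _ = t * (t * s) * s := by rw [C.s_cen t ht]
        _ = _ := by simp only [mul_assoc]
    rw [h6, h1, C.s_sq, one_mul] at h5
    exact C.z_ne h5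
  · have h1 := tab2 I C hs.1 hs.2 hee ht he hnsq hcc
    rw [C.s_sq] at h1
    exact C.z_ne h1

include C hj hy ht hal in
theorem case_iv2 [Finite G] (hnsq : ¬ IsSquare (I.aa t).det) (hs : s ∉ DD I C) : False := by
  have hne := I.one_ne
  have h16 := card_D_ge I C hy ht hal
  have hDy : ∀ x ∈ DD I C, x * I.ι j = I.ι j * x := fun x hx =>
    comm_y I C hy hx.1 (by rw [al_symm]; exact al_sc I C hx.1 hy hx.2)
  have hal' : I.al t (I.ι j) = -1 := by rw [al_symm]; exact hal
  have hzy := I.ι_z j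
  -- `s`
  have hs1 : I.al (I.ι j) s = 1 := by
    rcases I.al_or (I.ι j) s with h | h
    · exact h
    · exfalso
      have h1 := noncomm I C hy C.sN h
      rw [← C.s_cen _ hy] at h1
      have h2 : I.ι j * s = z * (I.ι j * s) := h1.trans (by rw [C.s_cen _ hy])
      exact C.z_ne (right_eq_mul.1 h2)
  have hs2 : I.al t s = -1 := by
    rcases I.al_or t s with h | h
    · exact absurd ⟨C.sN, sc_al I C hy ht hal C.sN hs1 h⟩ hs
    · exact h
  have hx1 : s * I.ι j ∈ DD I C := by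
    refine ⟨mul_mem C.sN hy, sc_al I C hy ht hal (mul_mem C.sN hy) ?_ ?_⟩
    · rw [al_mul_right I C hy C.sN hy, hs1, al_self, mul_one]
    · rw [al_mul_right I C ht C.sN hy, hs2, hal']; ring
  have hxx : (s * I.ι j) * (s * I.ι j) = 1 := by
    calc (s * I.ι j) * (s * I.ι j) = s * (I.ι j * s) * I.ι j := by simp only [mul_assoc]
      _ = (s * s) * (I.ι j * I.ι j) := by rw [C.s_cen _ hy]; simp only [mul_assoc]
      _ = 1 := by rw [C.s_sq, four I hj, C.z_sq]
  have hvx : ∀ {v : G}, v ∈ N0 → I.al (I.ι j) v = -1 → v * (s * I.ι j) = z * ((s * I.ι j) * v) := by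
    intro v hv hav
    have hsz : s * z = z * s := cz C C.sN
    calc v * (s * I.ι j) = (v * s) * I.ι j := by rw [mul_assoc]
      _ = s * (v * I.ι j) := by rw [C.s_cen v hv, mul_assoc]
      _ = (s * z) * (I.ι j * v) := by rw [noncomm I C hy hv hav, mul_assoc]
      _ = _ := by rw [hsz]; simp only [mul_assoc]
  obtain ⟨hex, hcx⟩ := tab1 I C hx1.1 hx1.2 hxx
  have halx : ∀ m ∈ N0, I.al m (s * I.ι j) = 1 := fun m hm => by rw [al_symm]; exact al_sc I C hx1.1 hm hx1.2
  have hev : ∀ {v : G}, v ∈ N0 → I.al (I.ι j) v = -1 → I.ee v = -1 := by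
    intro v hv hav
    rcases I.ee_or v with he | he
    · exfalso
      have h1 := tab3 I C hv (det_v I C hy ht hal hnsq hv hav) he
      have h2 : I.al (I.ι j) (v * (s * I.ι j)) = -1 := by
        rw [al_mul_right I C hy hv hx1.1, hav, halx _ hy, mul_one]
      have h3 := det_v I C hy ht hal hnsq (mul_mem hv hx1.1) h2
      have h4 : I.ee (v * (s * I.ι j)) = 1 := by
        rw [ee_mul I C hv hx1.1, he, hex, cc_symm, hcx v hv]; ring
      have h5 := tab3 I C (mul_mem hv hx1.1) h3 h4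
      have h6 : v * (s * I.ι j) * (v * (s * I.ι j)) = z := by
        nth_rw 1 [hvx hv hav]
        calc z * (s * I.ι j * v) * (v * (s * I.ι j)) = z * ((s * I.ι j) * (v * v) * (s * I.ι j)) := by
              simp only [mul_assoc]
          _ = z := by rw [h1, mul_one, hxx, mul_one]
      rw [h6] at h5
      exact C.z_ne h5
    · exact he
  have het := hev ht hal
  have hey : ∀ y ∈ DD I C, I.ee y = I.cc t y := by
    intro y hyD
    have h1 : I.al (I.ι j) (t * y) = -1 := by
      rw [al_mul_right I C hy ht hyD.1, hal, al_symm I _ y, al_sc I C hyD.1 hy hyD.2, mul_one]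
    have h2 := hev (mul_mem ht hyD.1) h1
    rw [ee_mul I C ht hyD.1, het] at h2
    rcases I.ee_or y with h | h <;> rcases I.cc_or t y with h' | h' <;> rw [h, h'] at h2 ⊢ <;>
      exfalso <;> apply hne <;> linear_combination h2
  have hccD : ∀ x ∈ DD I C, ∀ y ∈ DD I C, I.cc x y = 1 := by
    intro x hx y hyD
    have h1 := hey _ (mul_mem hx hyD)
    rw [ee_mul I C hx.1 hyD.1, cc_mul_right I C ht hx.1 hyD.1, ← hey x hx, ← hey y hyD] at h1
    rcases I.cc_or x y with h | h
    · exact h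
    · exfalso
      rw [h] at h1
      rcases I.ee_or x with h3 | h3 <;> rcases I.ee_or y with h4 | h4 <;> rw [h3, h4] at h1 <;> apply hne <;>
        first | linear_combination -h1 | linear_combination h1
  have heD : ∀ x ∈ DD I C, ∀ y ∈ DD I C, I.ee (x * y) = I.ee x * I.ee y := by
    intro x hx y hyD
    rw [ee_mul I C hx.1 hyD.1, hccD x hx y hyD, mul_one]
  have hq1 : ∀ y ∈ DD I C, I.ee y = 1 → y * y = 1 := fun y hyD h =>
    tab2 I C hyD.1 hyD.2 h ht het hnsq (by rw [cc_symm, ← hey y hyD, h])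
  have hq2 : ∀ y ∈ DD I C, I.ee y = -1 → y * y = z := fun y hyD h => by
    rcases C.sq y hyD.1 with h1 | h1
    · have h2 := (tab1 I C hyD.1 hyD.2 h1).1
      rw [h] at h2
      exact absurd h2.symm hne
    · exact h1
  have hab : ∀ x ∈ DD I C, ∀ y ∈ DD I C, x * y = y * x := by
    intro x hx y hyD
    rcases C.comm x hx.1 y hyD.1 with h | h
    · exact h
    · exfalso
      have hxz := cz C hx.1
      have hyz := cz C hyD.1
      have h1 : (x * y) * (x * y) = z * ((y * y) * (x * x)) := by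
        have hsx : ∀ w : G, w ∈ N0 → (x * x) * w = w * (x * x) := by
          intro w hw
          rcases C.sq x hx.1 with h2 | h2 <;> rw [h2]
          · rw [one_mul, mul_one]
          · exact (cz C hw).symm
        calc (x * y) * (x * y) = z * (y * x) * (x * y) := by nth_rw 1 [h]
          _ = z * (y * ((x * x) * y)) := by simp only [mul_assoc]
          _ = z * (y * (y * (x * x))) := by rw [hsx y hyD.1]
          _ = _ := by simp only [mul_assoc]
      have hxy := heD x hx y hyD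
      have hmem := mul_mem hx hyD
      rcases I.ee_or x with h3 | h3 <;> rcases I.ee_or y with h4 | h4 <;> rw [h3, h4] at hxy
      · rw [hq1 x hx h3, hq1 y hyD h4, hq1 _ hmem (by rw [hxy, one_mul])] at h1
        simp at h1
        exact C.z_ne h1.symm
      · rw [hq1 x hx h3, hq2 y hyD h4, hq2 _ hmem (by rw [hxy, one_mul])] at h1
        rw [mul_one, C.z_sq] at h1
        exact C.z_ne h1
      · rw [hq2 x hx h3, hq1 y hyD h4, hq2 _ hmem (by rw [hxy, mul_one])] at h1
        rw [one_mul, C.z_sq] at h1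
        exact C.z_ne h1
      · rw [hq2 x hx h3, hq2 y hyD h4, hq1 _ hmem (by rw [hxy]; ring)] at h1
        rw [C.z_sq, mul_one] at h1
        exact C.z_ne h1.symm
  -- counting
  have hcount : ∀ y : DD I C, ∃ d : zpowers s × Fin 2, (y : G) = d.1 * (![1, (s * I.ι j)⁻¹] d.2) := by
    rintro ⟨y, hyD⟩
    have key : ∀ p ∈ DD I C, p * t = t * p → p ∈ zpowers s := fun p hp hpt =>
      C.cen p hp.1 (cen_of I C hy ht hal (fun w hw => hab p hp w hw) (hDy p hp) hpt)
    rcases C.comm y hyD.1 t ht with h | h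
    · exact ⟨(⟨y, key y hyD h⟩, 0), by simp⟩
    · refine ⟨(⟨y * (s * I.ι j), key _ (mul_mem hyD hx1) ?_⟩, 1), by simp [mul_assoc]⟩
      have h1 := hvx ht hal
      have h2 : (s * I.ι j) * t = z * (t * (s * I.ι j)) := by
        rw [h1, ← mul_assoc, C.z_sq, one_mul]
      have hyz := cz C hyD.1
      calc y * (s * I.ι j) * t = y * ((s * I.ι j) * t) := mul_assoc _ _ _
        _ = (y * z) * (t * (s * I.ι j)) := by rw [h2]; simp only [mul_assoc]
        _ = z * (y * t) * (s * I.ι j) := by rw [hyz]; simp only [mul_assoc]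
        _ = (z * z) * (t * y * (s * I.ι j)) := by rw [h]; simp only [mul_assoc]
        _ = _ := by rw [C.z_sq, one_mul, mul_assoc]
  choose f hf using hcount
  have h1 : Nat.card (DD I C) ≤ Nat.card (zpowers s × Fin 2) := Nat.card_le_card_of_injective f (by
    intro a b hab
    exact Subtype.ext (by rw [hf a, hf b, hab]))
  have h2 : Nat.card (zpowers s) ≤ 4 := by
    rw [Nat.card_zpowers]
    refine Nat.le_of_dvd (by norm_num) (orderOf_dvd_of_pow_eq_one ?_)
    rw [show (4 : ℕ) = 2 * 2 from rfl, pow_mul, pow_two s, C.s_sq, pow_two, C.z_sq]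
  rw [Nat.card_prod, Nat.card_eq_fintype_card (α := Fin 2), Fintype.card_fin] at h1
  omega

end Four

include I C in
/-- **`E₇(q)`, `z` of type `A₁D₆`: no configuration.** -/
theorem e7_false [Finite G] [Finite F] : False := by
  by_cases hall : ∀ n ∈ N0, Sc (I.aa n)
  · exact case_i I C hall
  · push Not at hall
    obtain ⟨n, hn, hs⟩ := hall
    obtain ⟨j, hj, hy, t, ht, hal⟩ := exists_j I C hn hs
    by_cases hsq : IsSquare (I.aa t).det
    · exact case_sq I C hy ht hal hsq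
    · by_cases hsD : s ∈ DD I C
      · exact case_iv1 I C hy ht hal hsq hsD
      · exact case_iv2 I C hj hy ht hal hsq hsD

end Cfsg.Agent.H627.Co3
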