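import Cfsg.Agent.H13.Co3.Tools

/-!
# S1920, case B: group theory for the E₇ analysis (helper627)

* `exists_K2` : the second derived subgroup of `C(N0)` induces `A₆`;
* `lemE` : a subgroup `D` of `N0` of order at least 16, whose central involutions are in `⟨z⟩`, has no proper subgroup `D'` of
  index 2 such that all elements outside have square `z`.
-/

set_option autoImplicit false

open Subgroup Equiv

namespace Cfsg.Agent.H627.Co3

open Cfsg.Agent.H13.Co3 Cfsg.Agent.H738.C3

variable {G : Type*} [Group G]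
variable {P N0 : Subgroup G} {z s : G} {ψ : ↥(normalizer (P : Set G)) →* Equiv.Perm (Fin 6)}

/-- the second derived subgroup of `C(N0)` -/
def K2 (N0 : Subgroup G) : Subgroup G :=
  ⁅⁅centralizer (N0 : Set G), centralizer (N0 : Set G)⁆, ⁅centralizer (N0 : Set G), centralizer (N0 : Set G)⁆⁆

theorem K2_le (N0 : Subgroup G) : K2 N0 ≤ centralizer (N0 : Set G) :=
  (commutator_mono (commutator_le_self _) (commutator_le_self _)).trans (commutator_le_self _)

theorem exists_K2 (C : CB P N0 z s ψ) (π : Equiv.Perm (Fin 6)) (hπ : Equiv.Perm.sign π = 1) :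
    ∃ k, ∃ hk : k ∈ AA C, k ∈ (K2 N0 : Set G) ∧ psi C ⟨k, hk⟩ = π := by
  have hle : centralizer (N0 : Set G) ≤ AA C := fun g hg =>
    comm_le_AA C fun n hn => (mem_centralizer_iff.1 hg n hn).symm
  set f : ↥(centralizer (N0 : Set G)) →* Equiv.Perm (Fin 6) := (psi C).comp (inclusion hle) with hf
  have h1 : alternatingGroup (Fin 6) ≤ (⊤ : Subgroup ↥(centralizer (N0 : Set G))).map f := by
    intro σ hσ
    obtain ⟨g, hg, hc, hgσ⟩ := exists_even C (Perm.mem_alternatingGroup.1 hσ)
    exact ⟨⟨g, mem_centralizer_iff.2 fun n hn => (hc n hn).symm⟩, mem_top _, hgσ⟩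
  have h6 : (5 : ℕ) ≤ Nat.card (Fin 6) := by rw [Nat.card_eq_fintype_card, Fintype.card_fin]; norm_num
  have hA := commutator_alternatingGroup_eq_self h6
  have h2 : alternatingGroup (Fin 6) ≤ (⁅(⊤ : Subgroup ↥(centralizer (N0 : Set G))),
      (⊤ : Subgroup ↥(centralizer (N0 : Set G)))⁆ : Subgroup ↥(centralizer (N0 : Set G))).map f := by
    rw [map_commutator, ← hA]
    exact commutator_mono h1 h1
  have h3 : alternatingGroup (Fin 6) ≤ (⁅(⁅(⊤ : Subgroup ↥(centralizer (N0 : Set G))),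
      (⊤ : Subgroup ↥(centralizer (N0 : Set G)))⁆ : Subgroup ↥(centralizer (N0 : Set G))),
      (⁅(⊤ : Subgroup ↥(centralizer (N0 : Set G))),
      (⊤ : Subgroup ↥(centralizer (N0 : Set G)))⁆ : Subgroup ↥(centralizer (N0 : Set G)))⁆ :
        Subgroup ↥(centralizer (N0 : Set G))).map f := by
    rw [map_commutator, ← hA]
    exact commutator_mono h2 h2
  obtain ⟨k, hk, hkπ⟩ := h3 (Perm.mem_alternatingGroup.2 hπ)
  refine ⟨k, hle k.2, ?_, hkπ⟩
  have h4 : (k : G) ∈ (⁅(⁅(⊤ : Subgroup ↥(centralizer (N0 : Set G))),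
      (⊤ : Subgroup ↥(centralizer (N0 : Set G)))⁆ : Subgroup ↥(centralizer (N0 : Set G))),
      (⁅(⊤ : Subgroup ↥(centralizer (N0 : Set G))),
      (⊤ : Subgroup ↥(centralizer (N0 : Set G)))⁆ : Subgroup ↥(centralizer (N0 : Set G)))⁆ :
        Subgroup ↥(centralizer (N0 : Set G))).map (centralizer (N0 : Set G)).subtype := ⟨k, hk, rfl⟩
  rw [map_commutator, map_commutator, ← MonoidHom.range_eq_map, range_subtype] at h4
  exact h4

/-- central elements of `N0` of order at most 2 -/
theorem mem_z_of_cen (C : CB P N0 z s ψ) {x : G} (hx : x ∈ N0) (hc : ∀ m ∈ N0, x * m = m * x) (h2 : x * x = 1) :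
    x = 1 ∨ x = z := by
  obtain ⟨k, hk⟩ := mem_zpowers_iff.1 (C.cen x hx hc)
  have hs2 : s ^ (2 : ℤ) = z := by
    rw [show (2 : ℤ) = ((2 : ℕ) : ℤ) from rfl, zpow_natCast, pow_two, C.s_sq]
  rcases Int.even_or_odd' k with ⟨j, rfl | rfl⟩
  · rw [zpow_mul, hs2] at hk
    rcases Int.even_or_odd' j with ⟨i, rfl | rfl⟩
    · left
      rw [zpow_mul, show z ^ (2 : ℤ) = 1 by rw [show (2 : ℤ) = ((2 : ℕ) : ℤ) from rfl, zpow_natCast, pow_two, C.z_sq],
        one_zpow] at hk
      exact hk.symm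
    · right
      rw [zpow_add, zpow_mul, show z ^ (2 : ℤ) = 1 by
        rw [show (2 : ℤ) = ((2 : ℕ) : ℤ) from rfl, zpow_natCast, pow_two, C.z_sq], one_zpow, one_mul, zpow_one] at hk
      exact hk.symm
  · exfalso
    have h3 : x * x = s ^ (2 * (2 * j + 1)) := by
      rw [← hk, ← zpow_add]
      congr 1
      ring
    rw [zpow_mul, hs2, h2, zpow_add, zpow_mul, show z ^ (2 : ℤ) = 1 by
        rw [show (2 : ℤ) = ((2 : ℕ) : ℤ) from rfl, zpow_natCast, pow_two, C.z_sq], one_zpow, one_mul, zpow_one] at h3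
    exact C.z_ne h3.symm

open Classical in
/-- **Lemma E** -/
theorem lemE [Finite G] (C : CB P N0 z s ψ) {D : Subgroup G} (hD : D ≤ N0) (h16 : 16 ≤ Nat.card D)
    (hZ : ∀ x ∈ D, (∀ y ∈ D, x * y = y * x) → x * x = 1 → x = 1 ∨ x = z) {D' : Set G} (hD' : D' ⊆ D)
    (h11 : ∀ x ∈ D', ∀ y ∈ D', x * y ∈ D') (h10 : ∀ x ∈ D', ∀ y ∈ D, y ∉ D' → x * y ∉ D')
    (h00 : ∀ x ∈ D, ∀ y ∈ D, x ∉ D' → y ∉ D' → x * y ∈ D') (hne : ∃ y ∈ D, y ∉ D')
    (hq : ∀ y ∈ D, y ∉ D' → y * y = z) : False := by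
  obtain ⟨y, hy, hyD⟩ := hne
  have hyy := hq y hy hyD
  have hinv : ∀ x ∈ D', x * y * x = y := by
    intro x hx
    have h1 := hq (x * y) (D.mul_mem (hD' hx) hy) (h10 x hx y hy hyD)
    have h2 : x * y * x * y = y * y := by rw [hyy, ← h1]; group
    exact mul_right_cancel h2
  have hcomm : ∀ x ∈ D', ∀ w ∈ D', x * w = w * x := by
    intro x hx w hw
    have h1 := hinv (w * x) (h11 w hw x hx)
    have h2 := hinv x hx
    have h3 := hinv w hw
    -- `w x y w x = y = x y x`, `w y w = y`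
    have e1 : x * y = y * x⁻¹ := eq_mul_inv_iff_mul_eq.2 h2
    have e2 : w * y = y * w⁻¹ := eq_mul_inv_iff_mul_eq.2 h3
    have e3 : (w * x) * y = y * (w * x)⁻¹ := by
      rw [eq_mul_inv_iff_mul_eq]; exact h1
    have e4 : (w * x) * y = y * (x⁻¹ * w⁻¹)⁻¹⁻¹ := by rw [e3]; group
    have e5 : (w * x) * y = w * (y * x⁻¹) := by rw [← e1]; group
    have e6 : w * (y * x⁻¹) = y * w⁻¹ * x⁻¹ := by rw [← mul_assoc, e2]
    have e7 : y * (w * x)⁻¹ = y * (w⁻¹ * x⁻¹) := by rw [← e3, e5, e6, mul_assoc]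
    have e8 := mul_left_cancel e7
    have e9 : (w * x)⁻¹ = (x * w)⁻¹ := by rw [e8]; group
    exact (inv_injective e9).symm
  have hfix : ∀ x ∈ D', x * y = y * x → x = 1 ∨ x = z := by
    intro x hx hxy
    have hxx : x * x = 1 := by
      have h1 := hinv x hx
      rw [hxy, mul_assoc] at h1
      exact mul_eq_left.1 h1
    refine hZ x (hD' hx) (fun w hw => ?_) hxx
    by_cases hwD : w ∈ D'
    · exact hcomm x hx w hwD
    · have h1 := hcomm x hx _ (h00 w hw y hy hwD hyD)
      have h2 : w = w * y * y⁻¹ := by group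
      have h3 : x * y⁻¹ = y⁻¹ * x := by
        rw [eq_inv_mul_iff_mul_eq, ← mul_assoc, ← hxy]; group
      calc x * w = x * (w * y) * y⁻¹ := by group
        _ = w * y * (x * y⁻¹) := by rw [h1]; group
        _ = w * x := by rw [h3]; group
  -- the number of elements
  have hx0 : ∃ x0 ∈ D', ∀ x ∈ D', ¬ (x * y = y * x) → x * x0 ∈ D' ∧ (x * x0) * y = y * (x * x0) ∨ False := by
    by_cases h : ∃ x0 ∈ D', ¬ (x0 * y = y * x0)
    · obtain ⟨x0, h0, h1⟩ := h
      refine ⟨x0, h0, fun x hx hxy => Or.inl ⟨h11 x hx x0 h0, ?_⟩⟩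
      have k1 : x0 * y = z * (y * x0) := (C.comm x0 (hD (hD' h0)) y (hD hy)).resolve_left h1
      have k2 : x * y = z * (y * x) := (C.comm x (hD (hD' hx)) y (hD hy)).resolve_left hxy
      have k3 : x * z = z * x := (C.comm x (hD (hD' hx)) z (C.PN C.zP)).elim id (fun h => by
        exfalso
        have h4 : x * z = x := by rw [h, ← mul_assoc, C.z_sq, one_mul]
        exact C.z_ne (by simpa using h4))
      calc x * x0 * y = x * (x0 * y) := mul_assoc _ _ _
        _ = (x * z) * (y * x0) := by rw [k1]; simp only [mul_assoc]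
        _ = z * (x * y) * x0 := by rw [k3]; simp only [mul_assoc]
        _ = z * z * (y * x * x0) := by rw [k2]; simp only [mul_assoc]
        _ = _ := by rw [C.z_sq, one_mul, mul_assoc]
    · push Not at h
      have h1 : ∃ x ∈ D', True := ⟨y * y, h00 y hy y hy hyD hyD, trivial⟩
      obtain ⟨x0, h0, -⟩ := h1
      exact ⟨x0, h0, fun x hx hxy => absurd (h x hx) hxy⟩
  obtain ⟨x0, hx0D, hx0⟩ := hx0
  let w' : G → G := fun w => if w ∈ D' then w else w * y
  let w'' : G → G := fun w => if w' w * y = y * w' w then w' w else w' w * x0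
  have hw' : ∀ w ∈ D, w' w ∈ D' := by
    intro w hw
    simp only [w']
    split_ifs with h
    · exact h
    · exact h00 w hw y hy h hyD
  have hw'' : ∀ w ∈ D, w'' w = 1 ∨ w'' w = z := by
    intro w hw
    simp only [w'']
    split_ifs with h
    · exact hfix _ (hw' w hw) h
    · rcases hx0 _ (hw' w hw) h with ⟨h1, h2⟩ | h1
      · exact hfix _ h1 h2
      · exact h1.elim
  have hcard : Nat.card D ≤ Nat.card (Bool × Bool × Bool) := by
    refine Nat.card_le_card_of_injective (fun w : D => (decide ((w : G) ∈ D'), decide (w' w * y = y * w' w),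
      decide (w'' w = 1))) ?_
    intro a b hab
    simp only [Prod.mk.injEq, decide_eq_decide] at hab
    obtain ⟨e1, e2, e3⟩ := hab
    have e4 : w'' a = w'' b := by
      rcases hw'' a a.2 with h | h
      · rw [h, e3.1 h]
      · rcases hw'' b b.2 with h' | h'
        · exfalso
          have := e3.2 h'
          rw [h] at this
          exact C.z_ne this
        · rw [h, h']
    have e5 : w' a = w' b := by
      simp only [w''] at e4
      by_cases h : w' (a : G) * y = y * w' a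
      · rw [if_pos h, if_pos (e2.1 h)] at e4
        exact e4
      · rw [if_neg h, if_neg (fun h' => h (e2.2 h'))] at e4
        exact mul_right_cancel e4
    apply Subtype.ext
    simp only [w'] at e5
    by_cases h : (a : G) ∈ D'
    · rw [if_pos h, if_pos (e1.1 h)] at e5
      exact e5
    · rw [if_neg h, if_neg (fun h' => h (e1.2 h'))] at e5
      exact mul_right_cancel e5
  have h8 : Nat.card (Bool × Bool × Bool) = 8 := by
    rw [Nat.card_eq_fintype_card]; rfl
  omega

end Cfsg.Agent.H627.Co3
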