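import Mathlib

/-!
# S1920, case B, `E₇(q)`, `z` of type `A₁D₆`: the interface (helper627)

`E7I z F B` : everything the analysis of `E₇(q)` uses. `R g a M` : `g ∈ C_G(z)` acts on `sl₂` as `Ad a`, `a ∈ GL₂(F)`, and on
`so₁₂` as `Ad M`, `M` a similitude of the form `B` on the 12-dimensional space `V`. `ι : SL₂(F) → G` is the subgroup
`A₁ = ⟨X_b, X_-b⟩`, `Om` is `Ω₁₂⁺(F)`.
-/

set_option autoImplicit false

namespace Cfsg.Agent.H627.Co3

open Module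

variable {F V : Type*} [Field F] [AddCommGroup V] [Module F V]

/-- the sign change on the vectors `v j`, `j ∈ J` -/
noncomputable def sgn (v : Basis (Fin 12) F V) (J : Finset (Fin 12)) : Module.End F V :=
  v.constr F (fun j => if j ∈ J then -v j else v j)

/-- `M` is self-adjoint -/
def Sym (B : LinearMap.BilinForm F V) (M : Module.End F V) : Prop := ∀ u v, B (M u) v = B u (M v)

/-- **the interface** -/
structure E7I {G : Type*} [Group G] (z : G) (F : Type*) [Field F] {V : Type*} [AddCommGroup V] [Module F V]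
    (B : LinearMap.BilinForm F V) where
  /-- `g` acts as `(a, M)` -/
  R : G → Matrix (Fin 2) (Fin 2) F → Module.End F V → Prop
  /-- the subgroup `SL₂(F)` -/
  ι : Matrix.SpecialLinearGroup (Fin 2) F →* G
  /-- `Ω₁₂⁺(F)` -/
  Om : Set (Module.End F V)
  two : (2 : F) ≠ 0
  dim : finrank F V = 12
  symm : ∀ u v, B u v = B v u
  nd : ∀ u, (∀ v, B u v = 0) → u = 0
  ex : ∀ g, g * z = z * g → ∃ a M, R g a M
  cz : ∀ {g a M}, R g a M → g * z = z * g
  det : ∀ {g a M}, R g a M → a.det ≠ 0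
  /-- `M` is a similitude, its multiplier is a square if and only if `det a` is -/
  sim : ∀ {g a M}, R g a M → ∃ μ : F, μ ≠ 0 ∧ (∀ u v, B (M u) (M v) = μ * B u v) ∧ (IsSquare μ ↔ IsSquare a.det)
  mul : ∀ {g a M g' a' M'}, R g a M → R g' a' M' → R (g * g') (a * a') (M * M')
  uniq : ∀ {g a M a' M'}, R g a M → R g a' M' → (∃ c : F, a' = c • a) ∧ ∃ c : F, M' = c • M
  scal : ∀ {g a M} {c d : F}, R g a M → c ≠ 0 → d ≠ 0 → R g (c • a) (d • M)
  ker : ∀ {g}, R g 1 1 → g = 1 ∨ g = z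
  Rι : ∀ x, R (ι x) x 1
  ι_neg : ι (-1) = z
  omT : ∀ {g M}, R g 1 M → ∃ c : F, c ≠ 0 ∧ c • M ∈ Om
  omS : ∀ {M}, M ∈ Om → ∃ g, R g 1 M
  om_iso : ∀ {M}, M ∈ Om → ∀ u v, B (M u) (M v) = B u v
  signs : ∀ v : Basis (Fin 12) F V, (∀ i j, i ≠ j → B (v i) (v j) = 0) → ∀ J : Finset (Fin 12),
    (sgn v J ∈ Om ↔ Even J.card ∧ IsSquare (∏ j ∈ J, B (v j) (v j)))
  /-- table, `a = 1`, `n² = 1`, `n` conjugate to `n z` -/
  t1 : ∀ {n M}, R n 1 M → n * n = 1 → (∃ k, k * n * k⁻¹ = n * z) → ∃ ν : F, ν ≠ 0 ∧ M * M = ν ^ 2 • 1 ∧ Sym B M ∧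
    (finrank F (LinearMap.ker (M + ν • 1)) = 4 ∨ finrank F (LinearMap.ker (M + ν • 1)) = 8)
  /-- table, `a = 1`, `n² = z` -/
  t2 : ∀ {n M} {ν : F}, R n 1 M → n * n = z → M * M = ν ^ 2 • 1 → Sym B M →
    finrank F (LinearMap.ker (M + ν • 1)) ≠ 4 ∧ finrank F (LinearMap.ker (M + ν • 1)) ≠ 8
  /-- table, `a` not scalar, `n² = z` -/
  t3 : ∀ {n a M} {l : F}, R n a M → n * n = z → (¬ ∃ c : F, a = c • 1) → M * M = l • 1 → Sym B M → IsSquare l

end Cfsg.Agent.H627.Co3
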