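import Cfsg.Agent.H627.Co3.Four
import Cfsg.Agent.H898.Co3.TZero7

/-!
# S1920, case B, `E₇(q)`: the subgroup `D` of elements acting trivially on `sl₂` (helper627)
-/

set_option autoImplicit false

namespace Cfsg.Agent.H627.Co3

open Module Subgroup Matrix
open Cfsg.Agent.H13.Co3 Cfsg.Agent.H738.C3

variable {G : Type*} [Group G] {z : G} {F V : Type*} [Field F] [AddCommGroup V] [Module F V] {B : LinearMap.BilinForm F V}

variable (I : E7I z F B) {P N0 : Subgroup G} {s : G} {ψ : ↥(normalizer (P : Set G)) →* Equiv.Perm (Fin 6)}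
  (C : CB P N0 z s ψ)

include C in
theorem inv_eq {n : G} (hn : n ∈ N0) : n⁻¹ = n ∨ n⁻¹ = z * n := by
  rcases C.sq n hn with h | h
  · left; exact inv_eq_of_mul_eq_one_right h
  · right
    apply inv_eq_of_mul_eq_one_right
    rw [← mul_assoc, cz C hn, mul_assoc, h, C.z_sq]

include C in
theorem sc_mul {g h : G} (hg : g ∈ N0) (hh : h ∈ N0) (h1 : Sc (I.aa g)) (h2 : Sc (I.aa h)) : Sc (I.aa (g * h)) := by
  rw [sc_iff I (I.mul (R_N I C hg) (R_N I C hh))]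
  obtain ⟨c, hc⟩ := h1
  obtain ⟨d, hd⟩ := h2
  exact ⟨c * d, by rw [hc, hd, smul_mul_assoc, mul_smul_comm, one_mul, smul_smul]⟩

theorem sc_one : Sc (I.aa 1) := (sc_iff I I.R_one).2 ⟨1, by rw [one_smul]⟩

theorem sc_z : Sc (I.aa z) := (sc_iff I I.R_z).2 ⟨1, by rw [one_smul]⟩

/-- the elements of `N0` acting trivially on `sl₂` -/
def DD : Subgroup G where
  carrier := {n | n ∈ N0 ∧ Sc (I.aa n)}
  one_mem' := ⟨one_mem _, sc_one I⟩
  mul_mem' := fun {g h} hg hh => ⟨mul_mem hg.1 hh.1, sc_mul I C hg.1 hh.1 hg.2 hh.2⟩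
  inv_mem' := by
    rintro g ⟨hg, h1⟩
    refine ⟨inv_mem hg, ?_⟩
    rcases inv_eq C hg with h | h
    · rw [h]; exact h1
    · rw [h]; exact sc_mul I C (C.PN C.zP) hg (sc_z I) h1

theorem mem_DD {n : G} : n ∈ DD I C ↔ n ∈ N0 ∧ Sc (I.aa n) := Iff.rfl

theorem DD_le : DD I C ≤ N0 := fun _ h => h.1

/-- **no nontrivial sign function on `D`** -/
theorem killD [Finite G] (h16 : 16 ≤ Nat.card (DD I C))
    (hZ : ∀ x ∈ DD I C, (∀ y ∈ DD I C, x * y = y * x) → x * x = 1 → x = 1 ∨ x = z) {f : G → F}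
    (hf : ∀ x ∈ DD I C, ∀ y ∈ DD I C, f (x * y) = f x * f y) (hpm : ∀ x, f x = 1 ∨ f x = -1)
    (h1 : ∀ y ∈ DD I C, y * y = 1 → f y = 1) : ∀ y ∈ DD I C, f y = 1 := by
  by_contra hne
  push Not at hne
  obtain ⟨y0, hy0, hy1⟩ := hne
  have hm1 : ∀ {x}, f x ≠ 1 → f x = -1 := fun {x} h => (hpm x).resolve_left h
  refine lemE C (DD_le I C) h16 hZ (D' := {x | x ∈ DD I C ∧ f x = 1}) (fun x hx => hx.1) ?_ ?_ ?_ ⟨y0, hy0, ?_⟩ ?_
  · rintro x ⟨hx, h2⟩ y ⟨hy, h3⟩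
    exact ⟨mul_mem hx hy, by rw [hf x hx y hy, h2, h3, one_mul]⟩
  · rintro x ⟨hx, h2⟩ y hy h3 ⟨-, h4⟩
    rw [hf x hx y hy, h2, one_mul] at h4
    exact h3 ⟨hy, h4⟩
  · rintro x hx y hy h2 h3
    refine ⟨mul_mem hx hy, ?_⟩
    rw [hf x hx y hy, hm1 (fun h => h2 ⟨hx, h⟩), hm1 (fun h => h3 ⟨hy, h⟩)]
    ring
  · rintro ⟨-, h⟩; exact hy1 h
  · intro y hy h2
    rcases C.sq y hy.1 with h | h
    · exact absurd ⟨hy, h1 y hy h⟩ h2
    · exact h

/-- the commutators of `D` vanish -/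
theorem cc_D [Finite G] (h16 : 16 ≤ Nat.card (DD I C))
    (hZ : ∀ x ∈ DD I C, (∀ y ∈ DD I C, x * y = y * x) → x * x = 1 → x = 1 ∨ x = z) {m : G} (hm : m ∈ N0) :
    ∀ y ∈ DD I C, I.cc y m = 1 :=
  killD I C h16 hZ (f := fun x => I.cc x m) (fun _ hx _ hy => cc_mul_left I C hx.1 hy.1 hm) (fun x => I.cc_or x m)
    (fun _ hy h => (tab1 I C hy.1 hy.2 h).2 m hm)

theorem ee_D [Finite G] (h16 : 16 ≤ Nat.card (DD I C))
    (hZ : ∀ x ∈ DD I C, (∀ y ∈ DD I C, x * y = y * x) → x * x = 1 → x = 1 ∨ x = z) : ∀ y ∈ DD I C, I.ee y = 1 :=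
  killD I C h16 hZ (f := fun x => I.ee x) (fun x hx y hy => by
      show I.ee (x * y) = I.ee x * I.ee y
      rw [ee_mul I C hx.1 hy.1, cc_D I C h16 hZ hy.1 x hx, mul_one])
    (fun x => I.ee_or x) (fun _ hy h => (tab1 I C hy.1 hy.2 h).1)

include C in
theorem cc_rep {n m : G} (hn : n ∈ N0) (hm : m ∈ N0) {a a' : Matrix (Fin 2) (Fin 2) F} {M M' : Module.End F V}
    (h1 : I.R n a M) (h2 : I.R m a' M') : M * M' = I.cc n m • (M' * M) := by
  obtain ⟨-, d, hd, rfl⟩ := I.prop h1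
  obtain ⟨-, d', hd', rfl⟩ := I.prop h2
  simp only [smul_mul_assoc, mul_smul_comm, cc_spec I C hn hm, smul_smul]
  congr 1
  ring

include C in
theorem sqOm {n : G} (hn : n ∈ N0) (he : I.ee n = 1) {a : Matrix (Fin 2) (Fin 2) F} {M : Module.End F V} (hM : M ∈ I.Om)
    (h1 : I.R n a M) : Sym B M ∧ M * M = 1 := by
  obtain ⟨-, l, hl, hMM⟩ := sq_ex I C hn h1
  obtain ⟨-, d, hd0, hMd⟩ := I.prop h1
  have hsym : Sym B M := by
    intro v w
    rw [hMd, LinearMap.smul_apply, map_smul, LinearMap.smul_apply, LinearMap.smul_apply, map_smul, ee_sym I C hn he]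
  refine ⟨hsym, ?_⟩
  have hl1 : l = 1 := by
    obtain ⟨v, w, hvw⟩ := I.exB
    have h3 := I.om_iso hM v w
    have h4 : M (M w) = l • w := by
      have := End_ext hMM w
      simpa using this
    rw [hsym, h4, map_smul, smul_eq_mul] at h3
    have h5 : (l - 1) * B v w = 0 := by linear_combination h3
    exact sub_eq_zero.1 ((mul_eq_zero.1 h5).resolve_right hvw)
  rw [hMM, hl1, one_smul]

/-- **(T0)** if `c = 0`, `e = 0` on `D` and `N0 = D (N0 ∩ ι(SL₂))`: a big 2-subgroup of `A` acting trivially on `sl₂` -/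
theorem exists_W [Finite G] [Finite F] (hcc : ∀ x ∈ DD I C, ∀ y ∈ DD I C, I.cc x y = 1) (hee : ∀ x ∈ DD I C, I.ee x = 1)
    (hN : ∀ n ∈ N0, ∃ q, q ∈ N0 ∧ (∃ a, I.R q a 1) ∧ n * q ∈ DD I C) :
    ∃ W : Subgroup G, IsPGroup 2 W ∧ 2 ^ 10 ≤ Nat.card W ∧ W ≤ AA C ∧ ∀ w ∈ W, ∃ N, I.R w 1 N := by
  obtain ⟨W, h1, h2, h3, h4⟩ := Cfsg.Agent.H898.Co3.t0_E7 I C.z_ne
    {M | M ∈ I.Om ∧ ∃ n ∈ DD I C, I.R n 1 M} (by
      rintro M ⟨hM, n, hn, hR⟩ N ⟨hN, m, hm, hR'⟩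
      have h1 := cc_rep I C hn.1 hm.1 hR hR'
      rwa [hcc n hn m hm, one_smul] at h1) (by
      rintro M ⟨hM, n, hn, hR⟩
      obtain ⟨h1, h2⟩ := sqOm I C hn.1 (hee n hn) hM hR
      exact ⟨h1, 1, one_ne_zero, by rw [one_pow, one_smul]; exact h2⟩)
  refine ⟨W, h1, h2, ?_, fun w hw => ?_⟩
  · intro w hw
    obtain ⟨N, -, hN1, -, hN2⟩ := h4 w hw
    rw [mem_AA, act_iff C]
    intro n hn
    obtain ⟨q, hq, ⟨a, hqa⟩, hnq⟩ := hN n hn
    obtain ⟨M, hMO, hM⟩ := exOm I C hnq.1 hnq.2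
    have h5 := hN2 M ⟨hMO, _, hnq, hM⟩
    have h6 := I.mul (R_N I C hn) hqa
    rw [mul_one] at h6
    obtain ⟨-, c, hc⟩ := I.uniq hM h6
    refine I.comm_of (c := 1) (d := 1) hN1 (R_N I C hn) (by rw [one_mul, mul_one, one_smul]) ?_
    rw [one_smul, hc, mul_smul_comm, smul_mul_assoc, h5]
  · obtain ⟨N, -, hN1, -⟩ := h4 w hw
    exact ⟨N, hN1⟩

/-- the order of `W` -/
theorem card_W [Finite G] {W : Subgroup G} (hW : IsPGroup 2 W) (hWA : W ≤ AA C) (hR : ∀ w ∈ W, ∃ N, I.R w 1 N) :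
    Nat.card W ≤ Nat.card (DD I C) * 16 := by
  have : Fact (Nat.Prime 2) := ⟨Nat.prime_two⟩
  set f : ↥W →* Equiv.Perm (Fin 6) := (psi C).comp (inclusion hWA) with hf
  have h1 : Nat.card ↥W = Nat.card f.ker * Nat.card f.range := by
    rw [← Subgroup.card_mul_index f.ker, ← Nat.card_congr (QuotientGroup.quotientKerEquivRange f).toEquiv]
    rfl
  have hker : Nat.card f.ker ≤ Nat.card (DD I C) := by
    refine Nat.card_le_card_of_injective (fun w => ⟨(w.1 : G), ?_⟩) ?_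
    · have h2 : (w.1 : G) ∈ N0 := by
        refine mem_N0_of_psi C (hWA w.1.2) ?_ w.2
        obtain ⟨k, hk⟩ := hW w.1
        exact ⟨k, by rw [← SubmonoidClass.coe_pow, hk]; rfl⟩
      obtain ⟨N, hN⟩ := hR _ w.1.2
      exact ⟨h2, (sc_iff I hN).2 ⟨1, by rw [one_smul]⟩⟩
    · intro a b hab
      exact Subtype.ext (Subtype.ext (congrArg (fun x : ↥(DD I C) => (x : G)) hab))
  have hrange : IsPGroup 2 f.range := hW.of_surjective f.rangeRestrict f.rangeRestrict_surjective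
  obtain ⟨a, ha⟩ := hrange.exists_card_eq
  have h5 : Nat.card f.range ∣ 720 := by
    have := Subgroup.card_subgroup_dvd_card f.range
    rwa [Nat.card_eq_fintype_card (α := Equiv.Perm (Fin 6)), Fintype.card_perm] at this
  have h6 : 2 ^ a ∣ 2 ^ 4 * 45 := by rw [← ha]; exact h5
  have h7 : 2 ^ a ∣ 2 ^ 4 := (Nat.Coprime.pow_left a (by norm_num)).dvd_of_dvd_mul_right h6
  have h8 : Nat.card f.range ≤ 16 := by rw [ha]; exact Nat.le_of_dvd (by norm_num) h7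
  rw [h1]
  exact Nat.mul_le_mul hker h8

end Cfsg.Agent.H627.Co3
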