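import Cfsg.Agent.H627.Co3.Sgn

/-!
# S1920, case B, `E₇(q)`: the action of `N0` on `sl₂` (helper627)
-/

set_option autoImplicit false

namespace Cfsg.Agent.H627.Co3

open Module Subgroup Matrix
open Cfsg.Agent.H13.Co3 Cfsg.Agent.H738.C3
open scoped commutatorElement

variable {G : Type*} [Group G] {z : G} {F V : Type*} [Field F] [AddCommGroup V] [Module F V] {B : LinearMap.BilinForm F V}

theorem mcancel {A X Y : Matrix (Fin 2) (Fin 2) F} (hA : A.det ≠ 0) (h : X * A = Y * A) : X = Y := by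
  have hu : IsUnit A.det := isUnit_iff_ne_zero.2 hA
  have h1 := congrArg (· * A⁻¹) h
  simpa only [mul_assoc, Matrix.mul_nonsing_inv _ hu, mul_one] using h1

theorem sc_smul {a : Matrix (Fin 2) (Fin 2) F} {c : F} (h : Sc a) : Sc (c • a) := by
  obtain ⟨d, rfl⟩ := h
  exact ⟨c * d, by rw [smul_smul]⟩

section

variable (I : E7I z F B) {P N0 : Subgroup G} {s : G} {ψ : ↥(normalizer (P : Set G)) →* Equiv.Perm (Fin 6)}
  (C : CB P N0 z s ψ)

theorem sc_iff {g : G} {a : Matrix (Fin 2) (Fin 2) F} {M : Module.End F V} (h : I.R g a M) : Sc (I.aa g) ↔ Sc a := by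
  obtain ⟨⟨c, hc, h1⟩, -⟩ := I.prop h
  constructor
  · intro h2; rw [h1]; exact sc_smul h2
  · intro h2
    have h3 : I.aa g = c⁻¹ • a := by rw [h1, smul_smul, inv_mul_cancel₀ hc, one_smul]
    rw [h3]; exact sc_smul h2

/-- elements of `C(N0)` commuting with `b` on `sl₂` -/
def S1 (N0 : Subgroup G) (b : Matrix (Fin 2) (Fin 2) F) : Subgroup G where
  carrier := {g | g ∈ centralizer (N0 : Set G) ∧ ∃ a M, I.R g a M ∧ a * b = b * a}
  one_mem' := ⟨one_mem _, 1, 1, I.R_one, by rw [one_mul, mul_one]⟩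
  mul_mem' := by
    rintro g h ⟨hg, a, M, h1, h2⟩ ⟨hh, a', M', h3, h4⟩
    exact ⟨mul_mem hg hh, a * a', M * M', I.mul h1 h3, by rw [mul_assoc, h4, ← mul_assoc, h2, mul_assoc]⟩
  inv_mem' := by
    rintro g ⟨hg, a, M, h1, h2⟩
    obtain ⟨b', N, c, d, h3, hc, hd, h4, h5⟩ := I.inv' h1
    refine ⟨inv_mem hg, b', N, h3, ?_⟩
    have h6 : (c⁻¹ • b') * a = 1 := by
      rw [mul_eq_one_comm, mul_smul_comm, h4, smul_smul, inv_mul_cancel₀ hc, one_smul]
    have h7 : b' * a = c • (1 : Matrix (Fin 2) (Fin 2) F) := by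
      rw [← h6, smul_mul_assoc, smul_smul, mul_inv_cancel₀ hc, one_smul]
    apply mcancel (I.det h1)
    rw [mul_assoc b' b a, ← h2, ← mul_assoc, h7, mul_assoc b b' a, h7, smul_mul_assoc, mul_smul_comm, one_mul, mul_one]

/-- elements of `C(N0)` acting trivially on `sl₂` -/
def S2 (N0 : Subgroup G) : Subgroup G where
  carrier := {g | g ∈ centralizer (N0 : Set G) ∧ ∃ a M, I.R g a M ∧ Sc a}
  one_mem' := ⟨one_mem _, 1, 1, I.R_one, 1, by rw [one_smul]⟩
  mul_mem' := by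
    rintro g h ⟨hg, a, M, h1, c, rfl⟩ ⟨hh, a', M', h3, d, rfl⟩
    exact ⟨mul_mem hg hh, _, _, I.mul h1 h3, c * d, by
      rw [smul_mul_assoc, mul_smul_comm, one_mul, smul_smul]⟩
  inv_mem' := by
    rintro g ⟨hg, a, M, h1, e, rfl⟩
    obtain ⟨b', N, c, d, h3, hc, hd, h4, h5⟩ := I.inv' h1
    refine ⟨inv_mem hg, b', N, h3, e⁻¹ * c, ?_⟩
    have he : e ≠ 0 := by
      rintro rfl
      apply I.det h1
      rw [zero_smul, Matrix.det_zero]
    rw [smul_mul_assoc, one_mul] at h4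
    rw [mul_smul, ← h4, smul_smul, inv_mul_cancel₀ he, one_smul]

include C in
theorem K2_sc {n : G} (hn : n ∈ N0) (hs : ¬ Sc (I.aa n)) {k : G} (hk : k ∈ K2 N0) : ∃ a M, I.R k a M ∧ Sc a := by
  have hz : ∀ {g : G}, g ∈ centralizer (N0 : Set G) → g * z = z * g := fun hg =>
    (mem_centralizer_iff.1 hg z (C.PN C.zP)).symm
  have hcn : ∀ {g : G}, g ∈ centralizer (N0 : Set G) → g * n = n * g := fun hg =>
    (mem_centralizer_iff.1 hg n hn).symm
  have h1 : ⁅centralizer (N0 : Set G), centralizer (N0 : Set G)⁆ ≤ S1 I N0 (I.aa n) := by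
    rw [Subgroup.commutator_le]
    intro g hg h hh
    have hgh : ⁅g, h⁆ ∈ centralizer (N0 : Set G) :=
      (commutator_le_self (centralizer (N0 : Set G))) (commutator_mem_commutator hg hh)
    obtain ⟨c, L, hcL⟩ := I.ex _ (hz hgh)
    have Rg := I.R_aM (hz hg)
    have Rh := I.R_aM (hz hh)
    have Rn := R_N I C hn
    obtain ⟨⟨x, hx, hx'⟩, -⟩ := comm_ex I Rg Rn (Or.inl (hcn hg))
    obtain ⟨⟨y, hy, hy'⟩, -⟩ := comm_ex I Rh Rn (Or.inl (hcn hh))
    refine ⟨hgh, c, L, hcL, ?_⟩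
    have e1 : ⁅g, h⁆ * (h * g) = g * h := by rw [commutatorElement_def]; group
    have h2 := I.mul hcL (I.mul Rh Rg)
    rw [e1] at h2
    obtain ⟨⟨w, hw⟩, -⟩ := I.uniq h2 (I.mul Rg Rh)
    have hx0 : x ≠ 0 := by rintro rfl; norm_num at hx
    have hy0 : y ≠ 0 := by rintro rfl; norm_num at hy
    have hw0 : w ≠ 0 := by
      rintro rfl
      apply I.det (I.mul Rg Rh)
      rw [hw, zero_smul, Matrix.det_zero]
    have e2 : (I.aa g * I.aa h) * I.aa n = (x * y) • (I.aa n * (I.aa g * I.aa h)) := by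
      rw [mul_assoc, hy', mul_smul_comm, ← mul_assoc, hx', smul_mul_assoc, smul_smul, mul_comm y, mul_assoc]
    have e3 : (I.aa h * I.aa g) * I.aa n = (x * y) • (I.aa n * (I.aa h * I.aa g)) := by
      rw [mul_assoc, hx', mul_smul_comm, ← mul_assoc, hy', smul_mul_assoc, smul_smul, mul_assoc]
    rw [hw, smul_mul_assoc, mul_smul_comm, smul_comm] at e2
    have e4 := smul_right_injective _ hw0 e2
    rw [mul_assoc, e3, mul_smul_comm] at e4
    have e5 := smul_right_injective _ (mul_ne_zero hx0 hy0) e4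
    refine mcancel (I.det (I.mul Rh Rg)) ?_
    rw [mul_assoc, mul_assoc, e5]
  have h2 : K2 N0 ≤ S2 I N0 := by
    unfold K2
    rw [Subgroup.commutator_le]
    intro g hg h hh
    obtain ⟨hg1, a, M, Rg, ha⟩ := h1 hg
    obtain ⟨hh1, a', M', Rh, ha'⟩ := h1 hh
    have hgh : ⁅g, h⁆ ∈ centralizer (N0 : Set G) :=
      (commutator_le_self (centralizer (N0 : Set G))) (commutator_mem_commutator hg1 hh1)
    obtain ⟨c, L, hcL⟩ := I.ex _ (hz hgh)
    refine ⟨hgh, c, L, hcL, ?_⟩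
    have e1 : ⁅g, h⁆ * (h * g) = g * h := by rw [commutatorElement_def]; group
    have h2 := I.mul hcL (I.mul Rh Rg)
    rw [e1] at h2
    obtain ⟨⟨w, hw⟩, -⟩ := I.uniq h2 (I.mul Rg Rh)
    have hw0 : w ≠ 0 := by
      rintro rfl
      apply I.det (I.mul Rg Rh)
      rw [hw, zero_smul, Matrix.det_zero]
    rw [comm_comm hs ha.symm ha'.symm, ← smul_mul_assoc] at hw
    refine ⟨w⁻¹, ?_⟩
    have e2 : 1 = w • c := mcancel (I.det (I.mul Rh Rg)) (by rw [one_mul]; exact hw)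
    rw [e2, smul_smul, inv_mul_cancel₀ hw0, one_smul]
  exact (h2 hk).2

theorem four {j : Matrix.SpecialLinearGroup (Fin 2) F} (hj : j.1 * j.1 = -1) : I.ι j * I.ι j = z := by
  have h1 : j * j = -1 := by
    apply Subtype.ext
    rw [Matrix.SpecialLinearGroup.coe_mul, Matrix.SpecialLinearGroup.coe_neg, Matrix.SpecialLinearGroup.coe_one]
    exact hj
  rw [← map_mul, h1]
  exact I.ι_neg

include C in
theorem liftN0 [Finite G] {n : G} (hn : n ∈ N0) (hs : ¬ Sc (I.aa n)) {j : Matrix.SpecialLinearGroup (Fin 2) F}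
    (hj : j.1 * j.1 = -1) (hc : ∀ m ∈ N0, ∃ x : F, j.1 * I.aa m = x • (I.aa m * j.1)) : I.ι j ∈ N0 := by
  refine mem_N0 C (g := I.ι j) (K := (K2 N0 : Set G)) ?_ ⟨2, ?_⟩ (exists_K2 C) ?_
  · rw [mem_AA, act_iff C]
    intro m hm
    obtain ⟨x, hx⟩ := hc m hm
    exact I.comm_of (d := 1) (I.Rι j) (R_N I C hm) hx (by rw [one_mul, mul_one, one_smul])
  · have h1 := four I hj
    rw [show (2 : ℕ) ^ 2 = 2 * 2 from rfl, pow_mul, pow_two (I.ι j), h1, pow_two, C.z_sq]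
  · intro k hk
    obtain ⟨a, M, hR, c, rfl⟩ := K2_sc I C hn hs hk
    refine I.comm_of (c := 1) (d := 1) (I.Rι j) hR ?_ ?_
    · rw [mul_smul_comm, smul_mul_assoc, one_mul, mul_one, one_smul]
    · rw [one_mul, mul_one, one_smul]

include C in
theorem exj [Finite G] {p t : G} (hp : p ∈ N0) (ht : t ∈ N0) (hal : I.al p t = -1) (hsq : IsSquare (I.aa p).det) :
    ∃ j : Matrix.SpecialLinearGroup (Fin 2) F, j.1 * j.1 = -1 ∧ I.ι j ∈ N0 ∧ ∀ k ∈ N0, I.al (I.ι j) k = I.al p k := by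
  have h1 := al_spec I C hp ht
  rw [hal, neg_smul, one_smul] at h1
  have hns := not_sc_of_anti I.two h1 (I.det (I.mul (R_N I C ht) (R_N I C hp)))
  obtain ⟨⟨δ, -, hδ⟩, -⟩ := sq_ex I C hp (R_N I C hp)
  obtain ⟨j, hj, e, he, hje⟩ := exists_SL hns hδ (I.det (R_N I C hp)) hsq
  have h2 : ∀ k ∈ N0, j.1 * I.aa k = I.al p k • (I.aa k * j.1) := by
    intro k hk
    rw [hje, smul_mul_assoc, al_spec I C hp hk, mul_smul_comm, smul_comm]
  have h3 : I.ι j ∈ N0 := liftN0 I C hp hns hj fun m hm => ⟨_, h2 m hm⟩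
  exact ⟨j, hj, h3, fun k hk => al_uniq I C h3 hk (I.Rι j) (R_N I C hk) (h2 k hk)⟩

include C in
theorem exists_j [Finite G] [Finite F] {n : G} (hn : n ∈ N0) (hs : ¬ Sc (I.aa n)) :
    ∃ j : Matrix.SpecialLinearGroup (Fin 2) F, j.1 * j.1 = -1 ∧ I.ι j ∈ N0 ∧ ∃ t ∈ N0, I.al (I.ι j) t = -1 := by
  by_cases hex : ∃ m ∈ N0, I.al n m = -1
  · obtain ⟨m, hm, hal⟩ := hex
    by_cases h1 : IsSquare (I.aa n).det
    · obtain ⟨j, hj, h2, h3⟩ := exj I C hn hm hal h1
      exact ⟨j, hj, h2, m, hm, by rw [h3 m hm, hal]⟩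
    by_cases h2 : IsSquare (I.aa m).det
    · have hal' : I.al m n = -1 := by rw [al_symm]; exact hal
      obtain ⟨j, hj, h2, h3⟩ := exj I C hm hn hal' h2
      exact ⟨j, hj, h2, n, hn, by rw [h3 n hn, hal']⟩
    · have h3 : IsSquare (I.aa (n * m)).det := by
        obtain ⟨⟨c, hc, h4⟩, -⟩ := I.prop (I.mul (R_N I C hn) (R_N I C hm))
        have h5 := exists_sq h1 h2
        rw [← Matrix.det_mul, h4, Matrix.det_smul, Fintype.card_fin] at h5
        obtain ⟨r, hr⟩ := h5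
        refine ⟨c⁻¹ * r, ?_⟩
        field_simp
        rw [mul_comm, hr, sq]
      have h4 : I.al (n * m) m = -1 := by
        rw [al_mul_left I C hn hm hm, hal]
        unfold E7I.al
        rw [if_pos rfl, mul_one]
      obtain ⟨j, hj, h5, h6⟩ := exj I C (N0.mul_mem hn hm) hm h4 h3
      exact ⟨j, hj, h5, m, hm, by rw [h6 m hm, h4]⟩
  · exfalso
    push Not at hex
    have hall : ∀ m ∈ N0, I.al n m = 1 := fun m hm => (I.al_or n m).resolve_right (hex m hm)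
    obtain ⟨⟨δ, -, hδ⟩, -⟩ := sq_ex I C hn (R_N I C hn)
    obtain ⟨j, hj, hanti⟩ := exists_anti I.two (tr0 hδ hs) (I.det (R_N I C hn))
    have h1 : I.ι j ∈ N0 := by
      refine liftN0 I C hn hs hj fun m hm => ?_
      have h2 := al_spec I C hn hm
      rw [hall m hm, one_smul] at h2
      obtain ⟨⟨ε, -, hε⟩, -⟩ := sq_ex I C hm (R_N I C hm)
      rcases sc_or I.two hs h2 hε hδ with ⟨c, h⟩ | ⟨β, h⟩
      · refine ⟨1, ?_⟩
        rw [h, mul_smul_comm, smul_mul_assoc, one_mul, mul_one, one_smul]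
      · refine ⟨-1, ?_⟩
        rw [h, mul_smul_comm, smul_mul_assoc, hanti, smul_neg, neg_smul, one_smul, neg_neg]
    refine hex _ h1 (al_uniq I C hn h1 (R_N I C hn) (I.Rι j) ?_)
    rw [hanti, neg_smul, one_smul]

end

end Cfsg.Agent.H627.Co3
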