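import Cfsg.Agent.H627.Co3.E7I
import Cfsg.Agent.H627.Co3.Comb

/-!
# S1920, case B, `E₇(q)`: basic consequences of the interface (helper627)
-/

set_option autoImplicit false

namespace Cfsg.Agent.H627.Co3

open Module Subgroup Matrix

section SL

variable {F : Type*} [Field F]

/-- upper transvection -/
def up (t : F) : Matrix.SpecialLinearGroup (Fin 2) F := ⟨!![1, t; 0, 1], by simp [Matrix.det_fin_two]⟩

/-- lower transvection -/
def lo (t : F) : Matrix.SpecialLinearGroup (Fin 2) F := ⟨!![1, 0; t, 1], by simp [Matrix.det_fin_two]⟩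

theorem up_add (t u : F) : up t * up u = up (t + u) := by
  apply Subtype.ext
  rw [Matrix.SpecialLinearGroup.coe_mul]
  ext i j
  fin_cases i <;> fin_cases j <;> simp [up, Matrix.mul_apply, Fin.sum_univ_two, add_comm]

theorem lo_add (t u : F) : lo t * lo u = lo (t + u) := by
  apply Subtype.ext
  rw [Matrix.SpecialLinearGroup.coe_mul]
  ext i j
  fin_cases i <;> fin_cases j <;> simp [lo, Matrix.mul_apply, Fin.sum_univ_two, add_comm]

theorem up_lo_up {x : Matrix.SpecialLinearGroup (Fin 2) F} (hc : x.1 1 0 ≠ 0) :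
    x = up ((x.1 0 0 - 1) / x.1 1 0) * lo (x.1 1 0) * up ((x.1 1 1 - 1) / x.1 1 0) := by
  have hd := x.2
  rw [Matrix.det_fin_two] at hd
  apply Subtype.ext
  rw [Matrix.SpecialLinearGroup.coe_mul, Matrix.SpecialLinearGroup.coe_mul]
  ext i j
  fin_cases i <;> fin_cases j <;> simp [up, lo, Matrix.mul_apply, Fin.sum_univ_two] <;> field_simp <;>
    first | ring1 | skip
  linear_combination -hd

theorem closure_SL : Subgroup.closure (Set.range (up (F := F)) ∪ Set.range lo) = ⊤ := by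
  have h1 : ∀ t : F, up t ∈ Subgroup.closure (Set.range (up (F := F)) ∪ Set.range lo) := fun t =>
    Subgroup.subset_closure (Or.inl ⟨t, rfl⟩)
  have h2 : ∀ t : F, lo t ∈ Subgroup.closure (Set.range (up (F := F)) ∪ Set.range lo) := fun t =>
    Subgroup.subset_closure (Or.inr ⟨t, rfl⟩)
  have h3 : ∀ x : Matrix.SpecialLinearGroup (Fin 2) F, x.1 1 0 ≠ 0 →
      x ∈ Subgroup.closure (Set.range (up (F := F)) ∪ Set.range lo) := by
    intro x hx
    rw [up_lo_up hx]
    exact mul_mem (mul_mem (h1 _) (h2 _)) (h1 _)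
  rw [eq_top_iff]
  intro x _
  by_cases hx : x.1 1 0 = 0
  · have h4 : (x * lo 1).1 1 0 ≠ 0 := by
      have hd := x.2
      rw [Matrix.det_fin_two, hx] at hd
      rw [Matrix.SpecialLinearGroup.coe_mul]
      simp only [lo, Matrix.mul_apply, Fin.sum_univ_two, hx]
      simp
      rintro h0
      rw [h0] at hd
      simp at hd
    have h5 : x = x * lo 1 * (lo 1)⁻¹ := by group
    rw [h5]
    exact mul_mem (h3 _ h4) (inv_mem (h2 1))
  · exact h3 x hx

end SL

variable {G : Type*} [Group G] {z : G} {F V : Type*} [Field F] [AddCommGroup V] [Module F V] {B : LinearMap.BilinForm F V}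

namespace E7I

variable (I : E7I z F B)

theorem R_one : I.R 1 1 1 := by
  have h := I.Rι 1
  rwa [map_one, Matrix.SpecialLinearGroup.coe_one] at h

theorem R_z : I.R z 1 1 := by
  have h := I.Rι (-1)
  rw [I.ι_neg, Matrix.SpecialLinearGroup.coe_neg, Matrix.SpecialLinearGroup.coe_one] at h
  have h1 := I.scal (c := -1) (d := 1) h (neg_ne_zero.2 one_ne_zero) one_ne_zero
  simpa using h1

include I in
theorem z_sq : z * z = 1 := by
  rw [← I.ι_neg, ← map_mul, neg_mul_neg, one_mul, map_one]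

include I in
theorem nontriv : ∃ u : V, u ≠ 0 := by
  have h : 0 < finrank F V := by rw [I.dim]; norm_num
  have := Module.nontrivial_of_finrank_pos h
  exact exists_ne 0

theorem M_inj {g : G} {a : Matrix (Fin 2) (Fin 2) F} {M : Module.End F V} (h : I.R g a M) {u : V} (hu : M u = 0) :
    u = 0 := by
  obtain ⟨μ, hμ, h1, -⟩ := I.sim h
  refine I.nd u fun v => ?_
  have h2 := h1 u v
  rw [hu, map_zero, LinearMap.zero_apply] at h2
  exact (mul_eq_zero.1 h2.symm).resolve_left hμ

theorem M_ne {g : G} {a : Matrix (Fin 2) (Fin 2) F} {M : Module.End F V} (h : I.R g a M) : M ≠ 0 := by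
  rintro rfl
  obtain ⟨u, hu⟩ := I.nontriv
  exact hu (I.M_inj h rfl)

theorem inv' {g : G} {a : Matrix (Fin 2) (Fin 2) F} {M : Module.End F V} (h : I.R g a M) :
    ∃ b N, ∃ c d : F, I.R g⁻¹ b N ∧ c ≠ 0 ∧ d ≠ 0 ∧ a * b = c • (1 : Matrix (Fin 2) (Fin 2) F) ∧
      M * N = d • (1 : Module.End F V) := by
  obtain ⟨b, N, hb⟩ := I.ex g⁻¹ ((show Commute g z from I.cz h).inv_left).eq
  have h1 := I.mul h hb
  rw [mul_inv_cancel] at h1
  obtain ⟨⟨c, hc⟩, ⟨d, hd⟩⟩ := I.uniq I.R_one h1
  refine ⟨b, N, c, d, hb, ?_, ?_, hc, hd⟩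
  · rintro rfl
    apply I.det h1
    rw [hc, zero_smul, Matrix.det_zero]
  · rintro rfl
    apply I.M_ne h1
    rw [hd, zero_smul]

theorem eq_of {g h : G} {a a' : Matrix (Fin 2) (Fin 2) F} {M M' : Module.End F V} {c d : F} (hg : I.R g a M)
    (hh : I.R h a' M') (ha : a' = c • a) (hM : M' = d • M) : h = g ∨ h = z * g := by
  obtain ⟨b, N, c1, d1, hb, hc1, hd1, h1, h2⟩ := I.inv' hg
  have hc : c ≠ 0 := by
    rintro rfl
    apply I.det hh
    rw [ha, zero_smul, Matrix.det_zero]
  have hd : d ≠ 0 := by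
    rintro rfl
    apply I.M_ne hh
    rw [hM, zero_smul]
  have h3 := I.mul hh hb
  rw [ha, hM, smul_mul_assoc, smul_mul_assoc, h1, h2, smul_smul, smul_smul] at h3
  have h4 := I.scal (c := (c * c1)⁻¹) (d := (d * d1)⁻¹) h3 (inv_ne_zero (mul_ne_zero hc hc1))
    (inv_ne_zero (mul_ne_zero hd hd1))
  rw [smul_smul, smul_smul, inv_mul_cancel₀ (mul_ne_zero hc hc1), inv_mul_cancel₀ (mul_ne_zero hd hd1), one_smul,
    one_smul] at h4
  rcases I.ker h4 with h5 | h5
  · left; exact mul_inv_eq_one.1 h5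
  · right; exact mul_inv_eq_iff_eq_mul.1 h5

theorem comm_of {g h : G} {a a' : Matrix (Fin 2) (Fin 2) F} {M M' : Module.End F V} {c d : F} (hg : I.R g a M)
    (hh : I.R h a' M') (ha : a * a' = c • (a' * a)) (hM : M * M' = d • (M' * M)) :
    g * h = h * g ∨ g * h = z * (h * g) := I.eq_of (I.mul hh hg) (I.mul hg hh) ha hM

theorem ι_z (x : Matrix.SpecialLinearGroup (Fin 2) F) : I.ι x * z = z * I.ι x := I.cz (I.Rι x)

/-- **the action on `SL₂`** -/
theorem conj_ι {g : G} {a : Matrix (Fin 2) (Fin 2) F} {M : Module.End F V} (hg : I.R g a M)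
    {x x' : Matrix.SpecialLinearGroup (Fin 2) F} (hx : x'.1 * a = a * x.1) : g * I.ι x = I.ι x' * g := by
  have hu : IsUnit a.det := isUnit_iff_ne_zero.2 (I.det hg)
  let c : Matrix.SpecialLinearGroup (Fin 2) F →* Matrix.SpecialLinearGroup (Fin 2) F :=
    { toFun := fun x => ⟨a * x.1 * a⁻¹, by
        rw [Matrix.det_mul, Matrix.det_mul, x.2, mul_one, ← Matrix.det_mul, Matrix.mul_nonsing_inv _ hu,
          Matrix.det_one]⟩
      map_one' := by
        apply Subtype.ext
        show a * (1 : Matrix.SpecialLinearGroup (Fin 2) F).1 * a⁻¹ = 1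
        rw [Matrix.SpecialLinearGroup.coe_one, mul_one, Matrix.mul_nonsing_inv _ hu]
      map_mul' := fun x y => by
        apply Subtype.ext
        show a * (x * y).1 * a⁻¹ = (a * x.1 * a⁻¹) * (a * y.1 * a⁻¹)
        rw [Matrix.SpecialLinearGroup.coe_mul]
        have h1 : a⁻¹ * a = 1 := Matrix.nonsing_inv_mul _ hu
        calc a * (x.1 * y.1) * a⁻¹ = a * x.1 * 1 * y.1 * a⁻¹ := by simp only [mul_assoc, one_mul]
          _ = _ := by rw [← h1]; simp only [mul_assoc] }
  have hc : ∀ x, (c x).1 * a = a * x.1 := by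
    intro x
    show a * x.1 * a⁻¹ * a = a * x.1
    rw [mul_assoc, Matrix.nonsing_inv_mul _ hu, mul_one]
  have key : ∀ x, g * I.ι x = I.ι (c x) * g ∨ g * I.ι x = z * (I.ι (c x) * g) := by
    intro x
    have h1 := I.mul hg (I.Rι x)
    have h2 := I.mul (I.Rι (c x)) hg
    refine I.eq_of (c := 1) (d := 1) h2 h1 ?_ ?_
    · rw [one_smul]; exact (hc x).symm
    · rw [one_smul, mul_one, one_mul]
  have hsq : ∀ x, g * I.ι (x * x) = I.ι (c (x * x)) * g := by
    intro x
    rw [map_mul, map_mul, map_mul]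
    rcases key x with h | h
    · rw [← mul_assoc, h, mul_assoc, h, mul_assoc]
    · calc g * (I.ι x * I.ι x) = (g * I.ι x) * I.ι x := by rw [mul_assoc]
        _ = (z * (I.ι (c x) * g)) * I.ι x := by rw [h]
        _ = (z * I.ι (c x)) * (g * I.ι x) := by simp only [mul_assoc]
        _ = (z * (I.ι (c x) * z)) * (I.ι (c x) * g) := by rw [h]; simp only [mul_assoc]
        _ = (z * z) * (I.ι (c x) * (I.ι (c x) * g)) := by rw [I.ι_z]; simp only [mul_assoc]
        _ = _ := by rw [I.z_sq, one_mul, mul_assoc]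
  have hall : (MulAut.conj g).toMonoidHom.comp I.ι = I.ι.comp c := by
    refine MonoidHom.eq_of_eqOn_dense closure_SL ?_
    haveI : NeZero (2 : F) := ⟨I.two⟩
    rintro _ (⟨t, rfl⟩ | ⟨t, rfl⟩)
    · have h3 : up t = up (t / 2) * up (t / 2) := by rw [up_add, add_halves]
      have h4 := hsq (up (t / 2))
      rw [← h3] at h4
      show g * I.ι (up t) * g⁻¹ = I.ι (c (up t))
      rw [h4, mul_inv_cancel_right]
    · have h3 : lo t = lo (t / 2) * lo (t / 2) := by rw [lo_add, add_halves]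
      have h4 := hsq (lo (t / 2))
      rw [← h3] at h4
      show g * I.ι (lo t) * g⁻¹ = I.ι (c (lo t))
      rw [h4, mul_inv_cancel_right]
  have h5 : c x = x' := by
    apply Subtype.ext
    show a * x.1 * a⁻¹ = x'.1
    rw [← hx, mul_assoc, Matrix.mul_nonsing_inv _ hu, mul_one]
  have h6 : g * I.ι x * g⁻¹ = I.ι (c x) := DFunLike.congr_fun hall x
  rw [← h5, ← h6, inv_mul_cancel_right]

theorem comm_ι {g : G} {a : Matrix (Fin 2) (Fin 2) F} {M : Module.End F V} {c : F} (hg : I.R g a M)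
    (ha : a = c • (1 : Matrix (Fin 2) (Fin 2) F)) (x : Matrix.SpecialLinearGroup (Fin 2) F) : g * I.ι x = I.ι x * g := by
  refine I.conj_ι hg ?_
  rw [ha, smul_mul_assoc, mul_smul_comm, one_mul, mul_one]

end E7I

end Cfsg.Agent.H627.Co3
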