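import Mathlib

/-!
# S1920, case B, `E₇(q)`: 2 x 2 matrices (helper627)
-/

set_option autoImplicit false

namespace Cfsg.Agent.H627.Co3

open Matrix

variable {F : Type*} [Field F]

/-- `a` is scalar -/
def Sc (a : Matrix (Fin 2) (Fin 2) F) : Prop := ∃ c : F, a = c • (1 : Matrix (Fin 2) (Fin 2) F)

theorem sc_of {a : Matrix (Fin 2) (Fin 2) F} (h1 : a 0 1 = 0) (h2 : a 1 0 = 0) (h3 : a 0 0 = a 1 1) : Sc a := by
  refine ⟨a 0 0, ?_⟩
  ext i j
  fin_cases i <;> fin_cases j <;> simp [h1, h2, h3]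

omit [Field F] in
theorem entries {a b : Matrix (Fin 2) (Fin 2) F} (h : a = b) :
    a 0 0 = b 0 0 ∧ a 0 1 = b 0 1 ∧ a 1 0 = b 1 0 ∧ a 1 1 = b 1 1 := by
  subst h; exact ⟨rfl, rfl, rfl, rfl⟩

theorem tr0 {a : Matrix (Fin 2) (Fin 2) F} {δ : F} (h : a * a = δ • (1 : Matrix (Fin 2) (Fin 2) F)) (hn : ¬ Sc a) :
    a 1 1 = - a 0 0 := by
  obtain ⟨h00, h01, h10, h11⟩ := entries h
  simp only [Matrix.mul_apply, Fin.sum_univ_two, Matrix.smul_apply, Matrix.one_apply, smul_eq_mul] at h00 h01 h10 h11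
  simp at h00 h01 h10 h11
  by_contra hne
  have hs : a 0 0 + a 1 1 ≠ 0 := fun h0 => hne (eq_neg_of_add_eq_zero_right h0)
  apply hn
  refine sc_of ?_ ?_ ?_
  · refine (mul_eq_zero.1 (?_ : (a 0 0 + a 1 1) * a 0 1 = 0)).resolve_left hs
    linear_combination h01
  · refine (mul_eq_zero.1 (?_ : (a 0 0 + a 1 1) * a 1 0 = 0)).resolve_left hs
    linear_combination h10
  · refine sub_eq_zero.1 ((mul_eq_zero.1 (?_ : (a 0 0 + a 1 1) * (a 0 0 - a 1 1) = 0)).resolve_left hs)
    linear_combination h00 - h11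

theorem comm_lin {b c : Matrix (Fin 2) (Fin 2) F} (hb : ¬ Sc b) (h : b * c = c * b) :
    ∃ α β : F, c = α • (1 : Matrix (Fin 2) (Fin 2) F) + β • b := by
  obtain ⟨h00, h01, h10, h11⟩ := entries h
  simp only [Matrix.mul_apply, Fin.sum_univ_two] at h00 h01 h10 h11
  have key : ∀ α β : F, c 0 0 = α + β * b 0 0 → c 0 1 = β * b 0 1 → c 1 0 = β * b 1 0 → c 1 1 = α + β * b 1 1 →
      c = α • (1 : Matrix (Fin 2) (Fin 2) F) + β • b := by
    intro α β e1 e2 e3 e4
    ext i j
    fin_cases i <;> fin_cases j <;> simp [e1, e2, e3, e4]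
  by_cases h1 : b 0 1 = 0
  · by_cases h2 : b 1 0 = 0
    · have h3 : b 0 0 - b 1 1 ≠ 0 := fun h3 => hb (sc_of h1 h2 (sub_eq_zero.1 h3))
      rw [h1] at h01 h00
      rw [h2] at h10 h11
      refine ⟨c 0 0 - (c 0 0 - c 1 1) / (b 0 0 - b 1 1) * b 0 0, (c 0 0 - c 1 1) / (b 0 0 - b 1 1), key _ _ ?_ ?_ ?_ ?_⟩
      · ring
      · rw [h1, mul_zero]
        refine (mul_eq_zero.1 (?_ : (b 0 0 - b 1 1) * c 0 1 = 0)).resolve_left h3
        linear_combination h01
      · rw [h2, mul_zero]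
        refine (mul_eq_zero.1 (?_ : (b 0 0 - b 1 1) * c 1 0 = 0)).resolve_left h3
        linear_combination -h10
      · field_simp; ring
    · refine ⟨c 0 0 - c 1 0 / b 1 0 * b 0 0, c 1 0 / b 1 0, key _ _ ?_ ?_ ?_ ?_⟩
      · ring
      · field_simp; linear_combination -h00
      · field_simp
      · field_simp; linear_combination -h10
  · refine ⟨c 0 0 - c 0 1 / b 0 1 * b 0 0, c 0 1 / b 0 1, key _ _ ?_ ?_ ?_ ?_⟩
    · ring
    · field_simp
    · field_simp; linear_combination h00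
    · field_simp; linear_combination h01

theorem comm_comm {b c d : Matrix (Fin 2) (Fin 2) F} (hb : ¬ Sc b) (hc : b * c = c * b) (hd : b * d = d * b) :
    c * d = d * c := by
  obtain ⟨α, β, rfl⟩ := comm_lin hb hc
  obtain ⟨γ, δ, rfl⟩ := comm_lin hb hd
  simp only [add_mul, mul_add, smul_mul_assoc, mul_smul_comm, one_mul, mul_one]
  module

theorem not_sc_of_anti (h2 : (2 : F) ≠ 0) {a b : Matrix (Fin 2) (Fin 2) F} (hab : a * b = - (b * a)) (hd : (b * a).det ≠ 0) :
    ¬ Sc a := by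
  rintro ⟨c, rfl⟩
  rw [smul_mul_assoc, mul_smul_comm, one_mul, mul_one, eq_neg_iff_add_eq_zero, ← add_smul, ← two_mul] at hab
  rw [mul_smul_comm, mul_one] at hd
  rw [mul_smul] at hab
  rcases smul_eq_zero.1 hab with h | h
  · exact h2 h
  · rw [h] at hd
    exact hd Matrix.det_zero

theorem sc_of_comm (h2 : (2 : F) ≠ 0) {a b c : Matrix (Fin 2) (Fin 2) F} (hab : a * b = - (b * a)) (hd : (b * a).det ≠ 0)
    (ha : a * c = c * a) (hb : b * c = c * b) : Sc c := by
  obtain ⟨α, β, rfl⟩ := comm_lin (not_sc_of_anti h2 hab hd) ha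
  simp only [add_mul, mul_add, smul_mul_assoc, mul_smul_comm, one_mul, mul_one] at hb
  have h3 : β • (b * a) = β • (a * b) := add_left_cancel hb
  rw [hab, smul_neg, eq_neg_iff_add_eq_zero, ← two_smul F, smul_smul] at h3
  rcases smul_eq_zero.1 h3 with h | h
  · refine ⟨α, ?_⟩
    rw [(mul_eq_zero.1 h).resolve_left h2, zero_smul, add_zero]
  · rw [h] at hd
    exact absurd Matrix.det_zero hd

/-- an element commuting with the nonscalar `b`, both with scalar squares -/
theorem sc_or {a b : Matrix (Fin 2) (Fin 2) F} (h2 : (2 : F) ≠ 0) (hb : ¬ Sc b) (h : b * a = a * b) {δ ε : F}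
    (ha : a * a = δ • (1 : Matrix (Fin 2) (Fin 2) F)) (hbb : b * b = ε • (1 : Matrix (Fin 2) (Fin 2) F)) :
    Sc a ∨ ∃ β : F, a = β • b := by
  obtain ⟨α, β, rfl⟩ := comm_lin hb h
  by_cases hβ : β = 0
  · left; exact ⟨α, by rw [hβ, zero_smul, add_zero]⟩
  by_cases hα : α = 0
  · right; exact ⟨β, by rw [hα, zero_smul, zero_add]⟩
  exfalso
  apply hb
  simp only [add_mul, mul_add, smul_mul_assoc, mul_smul_comm, one_mul, mul_one, hbb] at ha
  refine ⟨(2 * α * β)⁻¹ * (δ - α * α - β * β * ε), ?_⟩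
  have h3 : (2 * α * β) • b = (δ - α * α - β * β * ε) • (1 : Matrix (Fin 2) (Fin 2) F) := by
    have h4 : (2 * α * β) • b + (α * α + β * β * ε) • (1 : Matrix (Fin 2) (Fin 2) F) = δ • 1 := by
      rw [← ha]; module
    rw [eq_sub_of_add_eq h4]; module
  rw [mul_smul, ← h3, smul_smul, inv_mul_cancel₀ (mul_ne_zero (mul_ne_zero h2 hα) hβ), one_smul]

theorem exists_XY [Finite F] (h2 : (2 : F) ≠ 0) {D : F} (hD : D ≠ 0) : ∃ X Y : F, X ^ 2 - D * Y ^ 2 = -1 := by
  have := Fintype.ofFinite F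
  have hodd : Fintype.card F % 2 = 1 := by
    rw [← Nat.odd_iff, ← Nat.not_even_iff_odd, even_iff_two_dvd]
    intro h
    have h3 := FiniteField.cast_card_eq_zero F
    obtain ⟨p, hp⟩ := CharP.exists F
    have hpp : p.Prime := (CharP.char_is_prime_or_zero F p).resolve_right (CharP.char_ne_zero_of_finite F p)
    obtain ⟨n, -, hn⟩ := FiniteField.card F p
    rw [hn] at h
    have h4 : p = 2 := ((Nat.prime_dvd_prime_iff_eq Nat.prime_two hpp).1 (Nat.prime_two.dvd_of_dvd_pow h)).symm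
    apply h2
    have h5 := CharP.cast_eq_zero F p
    rw [h4] at h5
    exact_mod_cast h5
  obtain ⟨X, Y, h⟩ := FiniteField.exists_root_sum_quadratic (R := F) (f := Polynomial.X ^ 2 + Polynomial.C 1)
    (g := Polynomial.C (-D) * Polynomial.X ^ 2) (by
      rw [Polynomial.degree_X_pow_add_C (by norm_num)]; rfl) (by
      rw [Polynomial.degree_C_mul_X_pow _ (neg_ne_zero.2 hD)]; rfl) hodd
  simp at h
  exact ⟨X, Y, by linear_combination h⟩

/-- an element of `SL₂` with square `-1` anticommuting with `a` -/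
theorem exists_anti [Finite F] (h2 : (2 : F) ≠ 0) {a : Matrix (Fin 2) (Fin 2) F} (ht : a 1 1 = - a 0 0) (hd : a.det ≠ 0) :
    ∃ j : Matrix.SpecialLinearGroup (Fin 2) F, j.1 * j.1 = -1 ∧ a * j.1 = - (j.1 * a) := by
  rw [Matrix.det_fin_two, ht] at hd
  have key : ∀ x y w : F, x ^ 2 + y * w = -1 → 2 * a 0 0 * x + a 0 1 * w + a 1 0 * y = 0 →
      ∃ j : Matrix.SpecialLinearGroup (Fin 2) F, j.1 * j.1 = -1 ∧ a * j.1 = - (j.1 * a) := by
    intro x y w h1 h3
    refine ⟨⟨!![x, y; w, -x], ?_⟩, ?_, ?_⟩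
    · rw [Matrix.det_fin_two]
      simp
      linear_combination -h1
    · ext i j
      fin_cases i <;> fin_cases j <;> simp [Matrix.mul_apply, Fin.sum_univ_two]
      · linear_combination h1
      · ring
      · ring
      · linear_combination h1
    · have ha : a = !![a 0 0, a 0 1; a 1 0, - a 0 0] := by
        ext i j
        fin_cases i <;> fin_cases j <;> simp [ht]
      generalize a 0 0 = p at *
      generalize a 0 1 = q at *
      generalize a 1 0 = r at *
      subst ha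
      rw [Matrix.mul_fin_two, Matrix.mul_fin_two]
      ext i j
      fin_cases i <;> fin_cases j <;> simp
      · linear_combination h3
      · ring
      · ring
      · linear_combination h3
  by_cases h01 : a 0 1 = 0
  · by_cases h10 : a 1 0 = 0
    · exact key 0 1 (-1) (by ring) (by rw [h01, h10]; ring)
    · -- `y = -(2 p x + q w) / r`
      obtain ⟨X, Y, hXY⟩ := exists_XY h2 (D := a 0 0 ^ 2 + a 0 1 * a 1 0) (by
        intro h; apply hd; linear_combination -h)
      refine key (X + a 0 0 * Y) (-(2 * a 0 0 * (X + a 0 0 * Y) + a 0 1 * (Y * a 1 0)) / a 1 0) (Y * a 1 0) ?_ ?_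
      · field_simp
        linear_combination hXY
      · field_simp; ring
  · obtain ⟨X, Y, hXY⟩ := exists_XY h2 (D := a 0 0 ^ 2 + a 0 1 * a 1 0) (by
      intro h; apply hd; linear_combination -h)
    refine key (X + a 0 0 * Y) (Y * a 0 1) (-(2 * a 0 0 * (X + a 0 0 * Y) + a 1 0 * (Y * a 0 1)) / a 0 1) ?_ ?_
    · field_simp
      linear_combination hXY
    · field_simp; ring

/-- scaling a nonscalar matrix with scalar square and square determinant into `SL₂` -/
theorem exists_SL {b : Matrix (Fin 2) (Fin 2) F} {δ : F} (hb : ¬ Sc b)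
    (hbb : b * b = δ • (1 : Matrix (Fin 2) (Fin 2) F)) (hd : b.det ≠ 0) (hs : IsSquare b.det) :
    ∃ j : Matrix.SpecialLinearGroup (Fin 2) F, j.1 * j.1 = -1 ∧ ∃ e : F, e ≠ 0 ∧ j.1 = e • b := by
  obtain ⟨e, he⟩ := hs
  have he0 : e ≠ 0 := by rintro rfl; rw [mul_zero] at he; exact hd he
  have ht := tr0 hbb hb
  have h1 : (e⁻¹ • b).det = 1 := by
    rw [Matrix.det_smul, Fintype.card_fin, he]; field_simp
  have h3 : b * b = (-(e * e)) • (1 : Matrix (Fin 2) (Fin 2) F) := by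
    rw [← he, Matrix.det_fin_two]
    ext i j
    fin_cases i <;> fin_cases j <;> simp [Matrix.mul_apply, Fin.sum_univ_two, ht] <;> ring
  refine ⟨⟨e⁻¹ • b, h1⟩, ?_, e⁻¹, inv_ne_zero he0, rfl⟩
  show (e⁻¹ • b) * (e⁻¹ • b) = -1
  rw [smul_mul_assoc, mul_smul_comm, h3, smul_smul, smul_smul]
  have h4 : e⁻¹ * e⁻¹ * -(e * e) = -1 := by field_simp
  rw [h4, neg_smul, one_smul]

/-- one of three determinants is a square -/
theorem exists_sq [Finite F] {x y : F} (hx : ¬ IsSquare x) (hy : ¬ IsSquare y) : IsSquare (x * y) := by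
  have := Fintype.ofFinite F
  classical
  by_cases hF : ringChar F = 2
  · exact FiniteField.isSquare_of_char_two hF _
  have h1 : quadraticChar F x = -1 := quadraticChar_neg_one_iff_not_isSquare.2 hx
  have h2 : quadraticChar F y = -1 := quadraticChar_neg_one_iff_not_isSquare.2 hy
  have hx0 : x ≠ 0 := by rintro rfl; exact hx ⟨0, by simp⟩
  have hy0 : y ≠ 0 := by rintro rfl; exact hy ⟨0, by simp⟩
  rw [← quadraticChar_one_iff_isSquare (mul_ne_zero hx0 hy0), map_mul, h1, h2]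
  rfl

end Cfsg.Agent.H627.Co3
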