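import Cfsg.Agent.H627.Co3.Lin
import Cfsg.Agent.H627.Co3.Mat2
import Cfsg.Agent.H79.Co3.WLem

/-!
# S1920, case B, `E₇(q)`: signs (helper627)

`cc g h` : the commutator of `M_g`, `M_h`; `al g h` : the commutator of `a_g`, `a_h`; `ee g` : `M_g` is self-adjoint or skew.
-/

set_option autoImplicit false

namespace Cfsg.Agent.H627.Co3

open Module Subgroup Matrix
open Cfsg.Agent.H13.Co3 Cfsg.Agent.H738.C3

variable {G : Type*} [Group G] {z : G} {F V : Type*} [Field F] [AddCommGroup V] [Module F V] {B : LinearMap.BilinForm F V}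

section Gen

theorem smul_inj {W : Type*} [AddCommGroup W] [Module F W] {c d : F} {w : W} (hw : w ≠ 0) (h : c • w = d • w) : c = d := by
  rw [← sub_eq_zero, ← sub_smul, smul_eq_zero] at h
  exact sub_eq_zero.1 (h.resolve_right hw)

/-- eigenspaces interchanged by `T` -/
theorem fin6 (h2 : (2 : F) ≠ 0) (hd : finrank F V = 12) {M T : Module.End F V} {ν : F} (hν : ν ≠ 0)
    (hM : M * M = ν ^ 2 • (1 : Module.End F V)) (hT : ∀ u, T u = 0 → u = 0) (hMT : M * T = -(T * M)) :
    finrank F (LinearMap.ker (M + ν • (1 : Module.End F V))) = 6 := by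
  have hfd : FiniteDimensional F V := FiniteDimensional.of_finrank_pos (by rw [hd]; norm_num)
  have hMM : ∀ u, M (M u) = ν ^ 2 • u := fun u => by
    have := congrArg (fun f : Module.End F V => f u) hM
    simpa using this
  have hMT' : ∀ u, M (T u) = - T (M u) := fun u => by
    have := congrArg (fun f : Module.End F V => f u) hMT
    simpa using this
  have mem : ∀ (μ : F) u, u ∈ LinearMap.ker (M + μ • (1 : Module.End F V)) ↔ M u = - (μ • u) := by
    intro μ u
    rw [LinearMap.mem_ker]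
    simp [eq_neg_iff_add_eq_zero]
  have hmap : ∀ μ : F, finrank F (LinearMap.ker (M + μ • (1 : Module.End F V))) ≤
      finrank F (LinearMap.ker (M + (-μ) • (1 : Module.End F V))) := by
    intro μ
    let f : ↥(LinearMap.ker (M + μ • (1 : Module.End F V))) →ₗ[F] ↥(LinearMap.ker (M + (-μ) • (1 : Module.End F V))) :=
      LinearMap.restrict T (fun u hu => by
        rw [mem] at hu ⊢
        rw [hMT', hu, map_neg, map_smul, neg_neg, neg_smul, neg_neg])
    refine LinearMap.finrank_le_finrank_of_injective (f := f) ?_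
    rw [← LinearMap.ker_eq_bot, LinearMap.ker_eq_bot']
    rintro ⟨u, hu⟩ h
    have h1 : T u = 0 := congrArg Subtype.val h
    exact Subtype.ext (hT u h1)
  have hc : IsCompl (LinearMap.ker (M + ν • (1 : Module.End F V))) (LinearMap.ker (M + (-ν) • (1 : Module.End F V))) := by
    constructor
    · rw [Submodule.disjoint_def]
      intro u h1 h3
      rw [mem] at h1 h3
      rw [h1, neg_smul, neg_neg, eq_comm, eq_neg_iff_add_eq_zero, ← two_smul F, smul_smul] at h3
      exact (smul_eq_zero.1 h3).resolve_left (mul_ne_zero h2 hν)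
    · rw [codisjoint_iff, eq_top_iff]
      intro u _
      rw [Submodule.mem_sup]
      refine ⟨(2 * ν)⁻¹ • (ν • u - M u), ?_, (2 * ν)⁻¹ • (ν • u + M u), ?_, ?_⟩
      · rw [mem, map_smul, map_sub, map_smul, hMM]
        module
      · rw [mem, map_smul, map_add, map_smul, hMM]
        module
      · rw [← smul_add]
        have : ν • u - M u + (ν • u + M u) = (2 * ν) • u := by module
        rw [this, smul_smul, inv_mul_cancel₀ (mul_ne_zero h2 hν), one_smul]
  have h3 := Submodule.finrank_add_eq_of_isCompl hc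
  have h4 := hmap ν
  have h5 := hmap (-ν)
  rw [neg_neg] at h5
  omega

end Gen

namespace E7I

variable (I : E7I z F B)

open Classical in
/-- the matrix of `g` on `sl₂` -/
noncomputable def aa (g : G) : Matrix (Fin 2) (Fin 2) F := if h : g * z = z * g then (I.ex g h).choose else 0

open Classical in
/-- the similitude of `g` -/
noncomputable def MM (g : G) : Module.End F V := if h : g * z = z * g then (I.ex g h).choose_spec.choose else 0

theorem R_aM {g : G} (h : g * z = z * g) : I.R g (I.aa g) (I.MM g) := by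
  unfold aa MM
  rw [dif_pos h, dif_pos h]
  exact (I.ex g h).choose_spec.choose_spec

theorem prop {g : G} {a : Matrix (Fin 2) (Fin 2) F} {M : Module.End F V} (h : I.R g a M) :
    (∃ c : F, c ≠ 0 ∧ a = c • I.aa g) ∧ ∃ d : F, d ≠ 0 ∧ M = d • I.MM g := by
  obtain ⟨⟨c, hc⟩, ⟨d, hd⟩⟩ := I.uniq (I.R_aM (I.cz h)) h
  refine ⟨⟨c, ?_, hc⟩, ⟨d, ?_, hd⟩⟩
  · rintro rfl
    apply I.det h
    rw [hc, zero_smul, Matrix.det_zero]
  · rintro rfl
    apply I.M_ne h
    rw [hd, zero_smul]

include I in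
theorem one_ne : (1 : F) ≠ -1 := by
  intro h
  apply I.two
  rw [← one_add_one_eq_two]
  nth_rw 2 [h]
  ring

open Classical in
/-- commutator of `M_g`, `M_h` -/
noncomputable def cc (g h : G) : F := if I.MM g * I.MM h = I.MM h * I.MM g then 1 else -1

open Classical in
/-- commutator of `a_g`, `a_h` -/
noncomputable def al (g h : G) : F := if I.aa g * I.aa h = I.aa h * I.aa g then 1 else -1

open Classical in
/-- `M_g` is self-adjoint or skew -/
noncomputable def ee (g : G) : F := if Sym B (I.MM g) then 1 else -1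

theorem cc_or (g h : G) : I.cc g h = 1 ∨ I.cc g h = -1 := by unfold cc; split_ifs <;> simp
theorem al_or (g h : G) : I.al g h = 1 ∨ I.al g h = -1 := by unfold al; split_ifs <;> simp
theorem ee_or (g : G) : I.ee g = 1 ∨ I.ee g = -1 := by unfold ee; split_ifs <;> simp

/-- some nonzero value of the form -/
theorem exB (I : E7I z F B) : ∃ u v : V, B u v ≠ 0 := by
  obtain ⟨u, hu⟩ := I.nontriv
  by_contra h
  push Not at h
  exact hu (I.nd u (h u))

end E7I

section Sg

variable (I : E7I z F B) {P N0 : Subgroup G} {s : G} {ψ : ↥(normalizer (P : Set G)) →* Equiv.Perm (Fin 6)}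
  (C : CB P N0 z s ψ)

include C in
theorem cz {n : G} (hn : n ∈ N0) : n * z = z * n := Act.z_comm C (act_N C hn)

include C in
theorem R_N {n : G} (hn : n ∈ N0) : I.R n (I.aa n) (I.MM n) := I.R_aM (cz C hn)

theorem comm_ex {g h : G} {a a' : Matrix (Fin 2) (Fin 2) F} {M M' : Module.End F V} (hg : I.R g a M) (hh : I.R h a' M')
    (hc : g * h = h * g ∨ g * h = z * (h * g)) :
    (∃ c : F, c ^ 2 = 1 ∧ a * a' = c • (a' * a)) ∧ ∃ d : F, d ^ 2 = 1 ∧ M * M' = d • (M' * M) := by
  have h1 := I.mul hg hh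
  have h2 := I.mul hh hg
  have h3 : I.R (g * h) (a' * a) (M' * M) := by
    rcases hc with h | h
    · rw [h]; exact h2
    · have h4 := I.mul I.R_z h2
      rwa [← h, one_mul, one_mul] at h4
  obtain ⟨⟨c, hc⟩, ⟨d, hd⟩⟩ := I.uniq h3 h1
  refine ⟨⟨c, ?_, hc⟩, ⟨d, ?_, hd⟩⟩
  · have h5 := congrArg Matrix.det hc
    rw [Matrix.det_smul, Fintype.card_fin, Matrix.det_mul, Matrix.det_mul, mul_comm a.det] at h5
    have h6 : a'.det * a.det ≠ 0 := mul_ne_zero (I.det hh) (I.det hg)
    have h7 : (c ^ 2 - 1) * (a'.det * a.det) = 0 := by linear_combination -h5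
    exact sub_eq_zero.1 ((mul_eq_zero.1 h7).resolve_right h6)
  · obtain ⟨u, v, huv⟩ := I.exB
    obtain ⟨μ, hμ, hμ', -⟩ := I.sim hg
    obtain ⟨ν, hν, hν', -⟩ := I.sim hh
    have h5 : B ((M * M') u) ((M * M') v) = μ * ν * B u v := by
      rw [Module.End.mul_apply, Module.End.mul_apply, hμ', hν', mul_assoc]
    have h6 : B ((M' * M) u) ((M' * M) v) = μ * ν * B u v := by
      rw [Module.End.mul_apply, Module.End.mul_apply, hν', hμ']; ring
    rw [hd, LinearMap.smul_apply, LinearMap.smul_apply, map_smul, map_smul, LinearMap.smul_apply, h6, smul_eq_mul,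
      smul_eq_mul] at h5
    have h7 : (d ^ 2 - 1) * (μ * ν * B u v) = 0 := by linear_combination h5
    exact sub_eq_zero.1 ((mul_eq_zero.1 h7).resolve_right (mul_ne_zero (mul_ne_zero hμ hν) huv))

theorem pm {d : F} (h : d ^ 2 = 1) : d = 1 ∨ d = -1 := by
  have h1 : (d - 1) * (d + 1) = 0 := by linear_combination h
  rcases mul_eq_zero.1 h1 with h | h
  · left; exact sub_eq_zero.1 h
  · right; exact eq_neg_of_add_eq_zero_left h

include C in
theorem cc_spec {g h : G} (hg : g ∈ N0) (hh : h ∈ N0) : I.MM g * I.MM h = I.cc g h • (I.MM h * I.MM g) := by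
  obtain ⟨d, hd, h1⟩ := (comm_ex I (R_N I C hg) (R_N I C hh) (C.comm g hg h hh)).2
  unfold E7I.cc
  split_ifs with h2
  · rw [one_smul]; exact h2
  · rcases pm hd with rfl | rfl
    · rw [one_smul] at h1; exact absurd h1 h2
    · exact h1

include C in
theorem al_spec {g h : G} (hg : g ∈ N0) (hh : h ∈ N0) : I.aa g * I.aa h = I.al g h • (I.aa h * I.aa g) := by
  obtain ⟨d, hd, h1⟩ := (comm_ex I (R_N I C hg) (R_N I C hh) (C.comm g hg h hh)).1
  unfold E7I.al
  split_ifs with h2
  · rw [one_smul]; exact h2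
  · rcases pm hd with rfl | rfl
    · rw [one_smul] at h1; exact absurd h1 h2
    · exact h1

include C in
theorem cc_uniq {g h : G} (hg : g ∈ N0) (hh : h ∈ N0) {a a' : Matrix (Fin 2) (Fin 2) F} {M M' : Module.End F V}
    (h1 : I.R g a M) (h2 : I.R h a' M') {x : F} (h3 : M * M' = x • (M' * M)) : I.cc g h = x := by
  obtain ⟨-, d, hd, rfl⟩ := I.prop h1
  obtain ⟨-, d', hd', rfl⟩ := I.prop h2
  have h4 := I.M_ne (I.mul (R_N I C hh) (R_N I C hg))
  refine smul_inj h4 ?_
  rw [← cc_spec I C hg hh]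
  simp only [smul_mul_assoc, mul_smul_comm, smul_smul] at h3
  have h5 : (d' * d) • (I.MM g * I.MM h) = (d' * d) • (x • (I.MM h * I.MM g)) := by
    rw [h3, smul_smul]; congr 1; ring
  exact smul_right_injective _ (mul_ne_zero hd' hd) h5

include C in
theorem al_uniq {g h : G} (hg : g ∈ N0) (hh : h ∈ N0) {a a' : Matrix (Fin 2) (Fin 2) F} {M M' : Module.End F V}
    (h1 : I.R g a M) (h2 : I.R h a' M') {x : F} (h3 : a * a' = x • (a' * a)) : I.al g h = x := by
  obtain ⟨⟨d, hd, rfl⟩, -⟩ := I.prop h1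
  obtain ⟨⟨d', hd', rfl⟩, -⟩ := I.prop h2
  have h4 := I.det (I.mul (R_N I C hh) (R_N I C hg))
  have h4' : I.aa h * I.aa g ≠ 0 := by
    intro h0
    rw [h0, Matrix.det_zero] at h4
    exact h4 rfl
  refine smul_inj h4' ?_
  rw [← al_spec I C hg hh]
  simp only [smul_mul_assoc, mul_smul_comm, smul_smul] at h3
  have h5 : (d' * d) • (I.aa g * I.aa h) = (d' * d) • (x • (I.aa h * I.aa g)) := by
    rw [h3, smul_smul]; congr 1; ring
  exact smul_right_injective _ (mul_ne_zero hd' hd) h5

include C in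
theorem cc_mul_right {g h k : G} (hg : g ∈ N0) (hh : h ∈ N0) (hk : k ∈ N0) : I.cc g (h * k) = I.cc g h * I.cc g k := by
  refine cc_uniq I C hg (N0.mul_mem hh hk) (R_N I C hg) (I.mul (R_N I C hh) (R_N I C hk)) ?_
  rw [← mul_assoc, cc_spec I C hg hh, smul_mul_assoc, mul_assoc, cc_spec I C hg hk, mul_smul_comm, smul_smul, mul_assoc]

include C in
theorem cc_mul_left {g h k : G} (hg : g ∈ N0) (hh : h ∈ N0) (hk : k ∈ N0) : I.cc (g * h) k = I.cc g k * I.cc h k := by
  refine cc_uniq I C (N0.mul_mem hg hh) hk (I.mul (R_N I C hg) (R_N I C hh)) (R_N I C hk) ?_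
  rw [mul_assoc, cc_spec I C hh hk, mul_smul_comm, ← mul_assoc, cc_spec I C hg hk, smul_mul_assoc, smul_smul, mul_assoc,
    mul_comm (I.cc h k)]

include C in
theorem al_mul_right {g h k : G} (hg : g ∈ N0) (hh : h ∈ N0) (hk : k ∈ N0) : I.al g (h * k) = I.al g h * I.al g k := by
  refine al_uniq I C hg (N0.mul_mem hh hk) (R_N I C hg) (I.mul (R_N I C hh) (R_N I C hk)) ?_
  rw [← mul_assoc, al_spec I C hg hh, smul_mul_assoc, mul_assoc, al_spec I C hg hk, mul_smul_comm, smul_smul, mul_assoc]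

include C in
theorem al_mul_left {g h k : G} (hg : g ∈ N0) (hh : h ∈ N0) (hk : k ∈ N0) : I.al (g * h) k = I.al g k * I.al h k := by
  refine al_uniq I C (N0.mul_mem hg hh) hk (I.mul (R_N I C hg) (R_N I C hh)) (R_N I C hk) ?_
  rw [mul_assoc, al_spec I C hh hk, mul_smul_comm, ← mul_assoc, al_spec I C hg hk, smul_mul_assoc, smul_smul, mul_assoc,
    mul_comm (I.al h k)]

theorem cc_symm (g h : G) : I.cc g h = I.cc h g := by
  unfold E7I.cc
  congr 1
  exact propext eq_comm

theorem al_symm (g h : G) : I.al g h = I.al h g := by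
  unfold E7I.al
  congr 1
  exact propext eq_comm

include C in
/-- squares -/
theorem sq_ex {n : G} (hn : n ∈ N0) {a : Matrix (Fin 2) (Fin 2) F} {M : Module.End F V} (h : I.R n a M) :
    (∃ δ : F, δ ≠ 0 ∧ a * a = δ • (1 : Matrix (Fin 2) (Fin 2) F)) ∧
      ∃ l : F, l ≠ 0 ∧ M * M = l • (1 : Module.End F V) := by
  have h1 := I.mul h h
  have h2 : I.R (n * n) 1 1 := by
    rcases C.sq n hn with h | h
    · rw [h]; exact I.R_one
    · rw [h]; exact I.R_z
  obtain ⟨⟨c, hc⟩, ⟨d, hd⟩⟩ := I.uniq h2 h1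
  refine ⟨⟨c, ?_, hc⟩, ⟨d, ?_, hd⟩⟩
  · rintro rfl
    apply I.det h1
    rw [hc, zero_smul, Matrix.det_zero]
  · rintro rfl
    apply I.M_ne h1
    rw [hd, zero_smul]

include C in
theorem adj_ex {n : G} (hn : n ∈ N0) {a : Matrix (Fin 2) (Fin 2) F} {M : Module.End F V} (h : I.R n a M) :
    ∃ e : F, e ^ 2 = 1 ∧ ∀ u v, B (M u) v = e * B u (M v) := by
  obtain ⟨-, l, hl, hMM⟩ := sq_ex I C hn h
  obtain ⟨μ, hμ, hμ', -⟩ := I.sim h
  have h1 : ∀ u v, B (M u) v = (μ / l) * B u (M v) := by
    intro u v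
    have h2 : M (M v) = l • v := by
      have := congrArg (fun f : Module.End F V => f v) hMM
      simpa using this
    have h3 := hμ' u (M v)
    rw [h2, map_smul, smul_eq_mul] at h3
    field_simp
    linear_combination h3
  refine ⟨μ / l, ?_, h1⟩
  obtain ⟨u, v, huv⟩ := I.exB
  have h2 : M (M u) = l • u := by
    have := congrArg (fun f : Module.End F V => f u) hMM
    simpa using this
  have h3 := h1 (M u) v
  have h4 := h1 v (M u)
  rw [I.symm (M v), h2, map_smul, smul_eq_mul, I.symm v u] at h4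
  rw [h2, map_smul, LinearMap.smul_apply, smul_eq_mul] at h3
  have h5 : ((μ / l) ^ 2 - 1) * (l * B u v) = 0 := by linear_combination -h3 - (μ / l) * h4
  exact sub_eq_zero.1 ((mul_eq_zero.1 h5).resolve_right (mul_ne_zero hl huv))

include C in
theorem ee_spec {n : G} (hn : n ∈ N0) : ∀ u v, B (I.MM n u) v = I.ee n * B u (I.MM n v) := by
  obtain ⟨e, he, h1⟩ := adj_ex I C hn (R_N I C hn)
  unfold E7I.ee
  split_ifs with h2
  · intro u v; rw [one_mul]; exact h2 u v
  · rcases pm he with rfl | rfl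
    · exact absurd (fun u v => by rw [h1 u v, one_mul]) h2
    · exact h1

include C in
theorem ee_uniq {n : G} (hn : n ∈ N0) {a : Matrix (Fin 2) (Fin 2) F} {M : Module.End F V} (h : I.R n a M) {x : F}
    (hx : ∀ u v, B (M u) v = x * B u (M v)) : I.ee n = x := by
  obtain ⟨-, d, hd, rfl⟩ := I.prop h
  obtain ⟨-, l, hl, hMM⟩ := sq_ex I C hn (R_N I C hn)
  obtain ⟨u, v, huv⟩ := I.exB
  have h2 : I.MM n (I.MM n v) = l • v := by
    have := congrArg (fun f : Module.End F V => f v) hMM
    simpa using this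
  have h3 := hx u (I.MM n v)
  have h4 := ee_spec I C hn u (I.MM n v)
  simp only [LinearMap.smul_apply, map_smul, smul_eq_mul, h2] at h3 h4
  rw [h4] at h3
  have h5 : (I.ee n - x) * (d * (l * B u v)) = 0 := by linear_combination h3
  exact sub_eq_zero.1 ((mul_eq_zero.1 h5).resolve_right (mul_ne_zero hd (mul_ne_zero hl huv)))

include C in
theorem ee_mul {g h : G} (hg : g ∈ N0) (hh : h ∈ N0) : I.ee (g * h) = I.ee g * I.ee h * I.cc g h := by
  refine ee_uniq I C (N0.mul_mem hg hh) (I.mul (R_N I C hg) (R_N I C hh)) ?_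
  intro u v
  rw [Module.End.mul_apply, ee_spec I C hg, ee_spec I C hh, ← Module.End.mul_apply, cc_spec I C hh hg,
    LinearMap.smul_apply, map_smul, smul_eq_mul, cc_symm I h g]
  ring

include C in
theorem ee_sym {n : G} (hn : n ∈ N0) (h : I.ee n = 1) : Sym B (I.MM n) := fun u v => by
  rw [ee_spec I C hn, h, one_mul]

include C in
/-- normalisation of the elements acting trivially on `sl₂` -/
theorem exOm {n : G} (hn : n ∈ N0) (hs : Sc (I.aa n)) : ∃ M ∈ I.Om, I.R n 1 M := by
  obtain ⟨c, hc⟩ := hs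
  have h1 := R_N I C hn
  have hc0 : c ≠ 0 := by
    rintro rfl
    apply I.det h1
    rw [hc, zero_smul, Matrix.det_zero]
  rw [hc] at h1
  have h2 := I.scal (c := c⁻¹) (d := 1) h1 (inv_ne_zero hc0) one_ne_zero
  rw [smul_smul, inv_mul_cancel₀ hc0, one_smul, one_smul] at h2
  obtain ⟨d, hd, h3⟩ := I.omT h2
  refine ⟨_, h3, ?_⟩
  have h4 := I.scal (c := 1) (d := d) h2 one_ne_zero hd
  rwa [one_smul] at h4

include C in
theorem of_R_one {n : G} (hn : n ∈ N0) {a : Matrix (Fin 2) (Fin 2) F} (h : I.R n a 1) : I.ee n = 1 ∧ ∀ m ∈ N0, I.cc n m = 1 := by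
  refine ⟨ee_uniq I C hn h fun u v => by simp, fun m hm => cc_uniq I C hn hm h (R_N I C hm) ?_⟩
  rw [one_mul, mul_one, one_smul]

include C in
/-- the table for elements of `D` with square 1 -/
theorem tab1 [Finite G] {n : G} (hn : n ∈ N0) (hs : Sc (I.aa n)) (h2 : n * n = 1) :
    I.ee n = 1 ∧ ∀ m ∈ N0, I.cc n m = 1 := by
  by_cases hsn : n ∈ zpowers s
  · have hcen : ∀ m ∈ N0, n * m = m * n := by
      intro m hm
      obtain ⟨k, hk⟩ := mem_zpowers_iff.1 hsn
      rw [← hk]
      exact ((show Commute m s from C.s_cen m hm).symm.zpow_left k).eq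
    rcases mem_z_of_cen C hn hcen h2 with rfl | rfl
    · exact of_R_one I C hn I.R_one
    · exact of_R_one I C hn I.R_z
  · obtain ⟨M, -, hM⟩ := exOm I C hn hs
    obtain ⟨m', hm', hconj⟩ := conj_z C hn hsn
    obtain ⟨ν, hν, hMM, hsym, hfin⟩ := I.t1 hM h2 ⟨m', by rw [hconj, cz C hn]⟩
    refine ⟨ee_uniq I C hn hM fun u v => by rw [one_mul]; exact hsym u v, fun m hm => ?_⟩
    rcases I.cc_or n m with h | h
    · exact h
    · exfalso
      obtain ⟨-, d, hd, hMd⟩ := I.prop hM
      have h3 := cc_spec I C hn hm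
      rw [h, neg_smul, one_smul] at h3
      have h4 : M * I.MM m = -(I.MM m * M) := by
        rw [hMd, smul_mul_assoc, mul_smul_comm, h3, smul_neg]
      have h5 := fin6 I.two I.dim hν hMM (fun u hu => I.M_inj (R_N I C hm) hu) h4
      omega

include C in
/-- the table for elements outside `PSL₂` -/
theorem tab3 {u : G} (hu : u ∈ N0) (hd : ¬ IsSquare (I.aa u).det) (he : I.ee u = 1) : u * u = 1 := by
  rcases C.sq u hu with h | h
  · exact h
  · exfalso
    have h1 := R_N I C hu
    obtain ⟨-, l, hl, hMM⟩ := sq_ex I C hu h1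
    have h2 := I.t3 h1 h (by
      rintro ⟨c, hc⟩
      apply hd
      rw [hc, Matrix.det_smul, Fintype.card_fin, Matrix.det_one, mul_one]
      exact ⟨c, sq c⟩) hMM (ee_sym I C hu he)
    obtain ⟨μ, hμ, hμ', hsq⟩ := I.sim h1
    apply hd
    rw [← hsq]
    obtain ⟨v, w, hvw⟩ := I.exB
    have h3 := hμ' v w
    have h4 : I.MM u (I.MM u w) = l • w := by
      have := congrArg (fun f : Module.End F V => f w) hMM
      simpa using this
    rw [ee_sym I C hu he, h4, map_smul, smul_eq_mul] at h3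
    have h5 : l = μ := mul_right_cancel₀ hvw h3
    rw [← h5]
    exact h2

theorem End_ext {M : Module.End F V} {M' : Module.End F V} (h : M = M') (u : V) : M u = M' u := by rw [h]

include C in
/-- the table for elements of `D` commuting with a skew similitude of nonsquare multiplier -/
theorem tab2 {y u : G} (hy : y ∈ N0) (hs : Sc (I.aa y)) (hey : I.ee y = 1) (hu : u ∈ N0) (heu : I.ee u = -1)
    (hd : ¬ IsSquare (I.aa u).det) (hc : I.cc y u = 1) : y * y = 1 := by
  have hfd : FiniteDimensional F V := FiniteDimensional.of_finrank_pos (by rw [I.dim]; norm_num)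
  rcases C.sq y hy with h | h
  · exact h
  · exfalso
    obtain ⟨M, hMO, hM⟩ := exOm I C hy hs
    obtain ⟨-, l, hl, hMM⟩ := sq_ex I C hy hM
    obtain ⟨-, d, hd0, hMd⟩ := I.prop hM
    have hsym : Sym B M := by
      intro v w
      rw [hMd, LinearMap.smul_apply, map_smul, LinearMap.smul_apply, LinearMap.smul_apply, map_smul,
        ee_sym I C hy hey]
    have hl1 : l = 1 := by
      obtain ⟨v, w, hvw⟩ := I.exB
      have h3 := I.om_iso hMO v w
      have h4 : M (M w) = l • w := by
        have := End_ext hMM w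
        simpa using this
      rw [hsym, h4, map_smul, smul_eq_mul] at h3
      have h5 : (l - 1) * B v w = 0 := by linear_combination h3
      exact sub_eq_zero.1 ((mul_eq_zero.1 h5).resolve_right hvw)
    rw [hl1, one_smul] at hMM
    obtain ⟨μ, hμ, hμ', hsq⟩ := I.sim (R_N I C hu)
    have h4 : I.MM u * M = M * I.MM u := by
      have h3 := cc_spec I C hy hu
      rw [hc, one_smul] at h3
      rw [hMd, smul_mul_assoc, mul_smul_comm, h3]
    have h5 := Cfsg.Agent.H79.Co3.w_lemma I hMO hMM hsym h4 hμ' (fun v w => by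
      rw [ee_spec I C hu, heu, neg_mul, one_mul]) (fun h => hd (hsq.1 h))
    have h6 := I.t2 (ν := 1) hM h (by rw [one_pow, one_smul]; exact hMM) hsym
    rw [one_smul] at h6
    have h7 : finrank F (LinearMap.ker (M + 1)) ≤ 12 := by rw [← I.dim]; exact Submodule.finrank_le _
    have h8 : finrank F (LinearMap.ker (M + 1)) = 0 ∨ finrank F (LinearMap.ker (M + 1)) = 12 := by omega
    have hMM' : ∀ u, M (M u) = u := fun u => by
      have := End_ext hMM u
      simpa using this
    have h9 : ∃ c : F, M = c • (1 : Module.End F V) := by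
      rcases h8 with h8 | h8
      · refine ⟨1, ?_⟩
        rw [one_smul]
        have h10 := (Submodule.finrank_eq_zero (R := F)).1 h8
        rw [LinearMap.ker_eq_bot'] at h10
        ext v
        have h11 := h10 (M v - v) (by
          simp [hMM'])
        rw [sub_eq_zero] at h11
        simpa using h11
      · refine ⟨-1, ?_⟩
        have h10 : LinearMap.ker (M + 1) = ⊤ := Submodule.eq_top_of_finrank_eq (by rw [h8, I.dim])
        rw [LinearMap.ker_eq_top] at h10
        rw [eq_neg_of_add_eq_zero_left h10, neg_smul, one_smul]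
    obtain ⟨c, hcM⟩ := h9
    have h12 := I.eq_of (c := 1) (d := c) I.R_one hM (by rw [one_smul]) hcM
    rcases h12 with h12 | h12
    · rw [h12, one_mul] at h
      exact C.z_ne h.symm
    · rw [mul_one] at h12
      rw [h12, C.z_sq] at h
      exact C.z_ne h.symm

end Sg

end Cfsg.Agent.H627.Co3
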